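import Mathlib
import Cfsg.Agent.Solvable.FixedPointFree
import Cfsg.Agent.Lib.CoprimeAbelian
set_option linter.all false

set_option autoImplicit false

/-!
S3814, tools: Frobenius actions and actions of noncyclic abelian groups on abelian groups.
-/

namespace Cfsg.Agent.H456

open Cfsg.Agent

section Abs

variable {Γ U : Type*} [Group Γ] [CommGroup U]

/-- Frobenius action on an abelian group, norm argument. -/
theorem frob_abs [Finite U] (ψ : Γ →* MulAut U) (K : Subgroup Γ) [Finite K] (c : Γ)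
    (hcK : ∀ k ∈ K, c * k * c⁻¹ ∈ K) {n : ℕ} (hn : 0 < n) (hcn : c ^ n = 1)
    (hfree : ∀ k ∈ K, ∀ j, 0 < j → j < n → c ^ j * k = k * c ^ j → k = 1)
    (hcop : (Nat.card K).Coprime (Nat.card U)) (hc : ∀ u : U, ψ c u = u → u = 1) :
    ∀ k ∈ K, ∀ u, ψ k u = u := by
  classical
  have : Fintype K := Fintype.ofFinite K
  have hcjK : ∀ j : ℕ, ∀ k ∈ K, c ^ j * k * (c ^ j)⁻¹ ∈ K := by
    intro j
    induction j with
    | zero => intro k hk; simpa using hk
    | succ j ih =>
      intro k hk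
      have : c ^ (j + 1) * k * (c ^ (j + 1))⁻¹ = c * (c ^ j * k * (c ^ j)⁻¹) * c⁻¹ := by
        rw [pow_succ']; group
      rw [this]
      exact hcK _ (ih k hk)
  have hinner : ∀ u : U, ∏ j ∈ Finset.range n, ψ (c ^ j) u = 1 :=
    fun u => Solvable.FixedPointFree.prod_range_eq_one ψ hc hcn u
  let N : U → U := fun u => ∏ k : K, ψ k u
  have hNmul : ∀ (s : Finset ℕ) (f : ℕ → U), ∏ j ∈ s, N (f j) = N (∏ j ∈ s, f j) := by
    intro s f
    simp only [N]
    rw [Finset.prod_comm]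
    apply Finset.prod_congr rfl
    intro k _
    rw [map_prod]
  have hNinv : ∀ u : U, N u⁻¹ = (N u)⁻¹ := by
    intro u
    simp only [N, map_inv]
    rw [Finset.prod_inv_distrib]
  -- the bijections
  have hθ : ∀ j, 0 < j → j < n → ∀ u : U, ∏ k : K, ψ ((k : Γ) * c ^ j * (k : Γ)⁻¹) u =
      N (ψ (c ^ j) u) := by
    intro j hj0 hjn u
    let θ : K → K := fun k => ⟨k * (c ^ j * (k : Γ)⁻¹ * (c ^ j)⁻¹),
      K.mul_mem k.2 (hcjK j _ (K.inv_mem k.2))⟩
    have hinj : Function.Injective θ := by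
      intro a b hab
      have h1 : (a : Γ) * (c ^ j * (a : Γ)⁻¹ * (c ^ j)⁻¹) =
          (b : Γ) * (c ^ j * (b : Γ)⁻¹ * (c ^ j)⁻¹) := congrArg Subtype.val hab
      have h2 : c ^ j * ((b : Γ)⁻¹ * a) = ((b : Γ)⁻¹ * a) * c ^ j := by
        have h3 : (b : Γ)⁻¹ * ((a : Γ) * (c ^ j * (a : Γ)⁻¹ * (c ^ j)⁻¹)) * (c ^ j * a) =
            (b : Γ)⁻¹ * a * c ^ j := by group
        rw [h1] at h3
        have h4 : (b : Γ)⁻¹ * ((b : Γ) * (c ^ j * (b : Γ)⁻¹ * (c ^ j)⁻¹)) * (c ^ j * a) =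
            c ^ j * ((b : Γ)⁻¹ * a) := by group
        rw [← h4, h3]
      have h5 := hfree _ (K.mul_mem (K.inv_mem b.2) a.2) j hj0 hjn h2
      apply Subtype.ext
      exact (inv_mul_eq_one.1 h5).symm
    have hbij : Function.Bijective θ := Finite.injective_iff_bijective.1 hinj
    have h6 : ∏ k : K, ψ ((k : Γ) * c ^ j * (k : Γ)⁻¹) u =
        ∏ k : K, ψ ((θ k : K) : Γ) (ψ (c ^ j) u) := by
      apply Finset.prod_congr rfl
      intro k _
      rw [← MulAut.mul_apply, ← map_mul]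
      congr 2
      simp only [θ]
      group
    rw [h6]
    exact hbij.prod_comp (fun k : K => ψ (k : Γ) (ψ (c ^ j) u))
  have hkey : ∀ u : U, N u = u ^ Fintype.card K := by
    intro u
    obtain ⟨m, rfl⟩ : ∃ m, n = m + 1 := ⟨n - 1, by omega⟩
    have h1 : ∏ k : K, ∏ j ∈ Finset.range (m + 1), ψ ((k : Γ) * c ^ j * (k : Γ)⁻¹) u = 1 := by
      apply Finset.prod_eq_one
      intro k _
      have h2 : ∏ j ∈ Finset.range (m + 1), ψ ((k : Γ) * c ^ j * (k : Γ)⁻¹) u =
          ψ k (∏ j ∈ Finset.range (m + 1), ψ (c ^ j) (ψ (k : Γ)⁻¹ u)) := by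
        rw [map_prod]
        apply Finset.prod_congr rfl
        intro j _
        rw [map_mul, map_mul, MulAut.mul_apply, MulAut.mul_apply]
      rw [h2, hinner, map_one]
    rw [Finset.prod_comm, Finset.prod_range_succ'] at h1
    have h3 : ∏ k : K, ψ ((k : Γ) * c ^ 0 * (k : Γ)⁻¹) u = u ^ Fintype.card K := by
      have : ∀ k : K, ψ ((k : Γ) * c ^ 0 * (k : Γ)⁻¹) u = u := by
        intro k; simp
      rw [Finset.prod_congr rfl (fun k _ => this k)]
      simp
    have h4 : ∏ j ∈ Finset.range m, ∏ k : K, ψ ((k : Γ) * c ^ (j + 1) * (k : Γ)⁻¹) u =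
        N (∏ j ∈ Finset.range m, ψ (c ^ (j + 1)) u) := by
      rw [← hNmul]
      apply Finset.prod_congr rfl
      intro j hj
      exact hθ (j + 1) (by omega) (by have := Finset.mem_range.1 hj; omega) u
    have h5 : ∏ j ∈ Finset.range m, ψ (c ^ (j + 1)) u = u⁻¹ := by
      have := hinner u
      rw [Finset.prod_range_succ', pow_zero, map_one, MulAut.one_apply] at this
      exact eq_inv_of_mul_eq_one_left this
    rw [h3, h4, h5, hNinv] at h1
    exact (inv_mul_eq_one.1 h1)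
  intro k hk u
  have h1 : ψ k (N u) = N u := by
    simp only [N]
    rw [map_prod]
    have h2 : ∀ k' : K, ψ k (ψ k' u) = ψ (((⟨k, hk⟩ : K) * k' : K) : Γ) u := by
      intro k'
      rw [← MulAut.mul_apply, ← map_mul]; rfl
    rw [Finset.prod_congr rfl (fun k' _ => h2 k')]
    exact Equiv.prod_comp (Equiv.mulLeft (⟨k, hk⟩ : K)) (fun k' : K => ψ (k' : Γ) u)
  rw [hkey, map_pow] at h1
  have h2 : (ψ k u * u⁻¹) ^ Nat.card K = 1 := by
    rw [mul_pow, inv_pow, Nat.card_eq_fintype_card, h1, mul_inv_cancel]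
  have h3 := Lib.CoprimeAbelian.eq_one_of_pow_coprime hcop _ h2
  exact mul_inv_eq_one.1 h3

end Abs

section Inv

variable {Γ W : Type*} [Group Γ] [Group W]

/-- the group of elements leaving `U` invariant -/
def stabU (φ : Γ →* MulAut W) (U : Subgroup W) : Subgroup Γ where
  carrier := {g | ∀ u, φ g u ∈ U ↔ u ∈ U}
  one_mem' := by intro u; simp
  mul_mem' := by
    intro a b ha hb u
    rw [map_mul, MulAut.mul_apply, ha, hb]
  inv_mem' := by
    intro a ha u
    have := ha (φ a⁻¹ u)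
    rw [← MulAut.mul_apply, ← map_mul, mul_inv_cancel, map_one, MulAut.one_apply] at this
    exact this.symm

theorem mem_stabU_of_finite (φ : Γ →* MulAut W) (U : Subgroup W) [Finite U] {g : Γ}
    (hg : ∀ u ∈ U, φ g u ∈ U) : g ∈ stabU φ U := by
  intro w
  constructor
  · intro hw
    let f : U → U := fun u => ⟨φ g u, hg u u.2⟩
    have hinj : Function.Injective f := by
      intro a b hab
      exact Subtype.ext ((φ g).injective (congrArg Subtype.val hab))
    obtain ⟨u, hu⟩ := (Finite.injective_iff_surjective.1 hinj) ⟨φ g w, hw⟩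
    have h1 : φ g u = φ g w := congrArg Subtype.val hu
    rw [← (φ g).injective h1]
    exact u.2
  · exact hg w

/-- the action on an invariant subgroup -/
def resU (φ : Γ →* MulAut W) (U : Subgroup W) : stabU φ U →* MulAut U where
  toFun g :=
    { toFun := fun u => ⟨φ g u, (g.2 u).2 u.2⟩
      invFun := fun u => ⟨φ (g : Γ)⁻¹ u, (((stabU φ U).inv_mem g.2) u).2 u.2⟩
      left_inv := by
        intro u
        apply Subtype.ext
        change φ (g : Γ)⁻¹ (φ g u) = u
        rw [← MulAut.mul_apply, ← map_mul, inv_mul_cancel, map_one, MulAut.one_apply]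
      right_inv := by
        intro u
        apply Subtype.ext
        change φ g (φ (g : Γ)⁻¹ u) = u
        rw [← MulAut.mul_apply, ← map_mul, mul_inv_cancel, map_one, MulAut.one_apply]
      map_mul' := by
        intro a b
        apply Subtype.ext
        change φ g (a * b) = φ g a * φ g b
        rw [map_mul] }
  map_one' := by
    ext u
    change φ 1 u = u
    rw [map_one, MulAut.one_apply]
  map_mul' := by
    intro a b
    ext u
    change φ (a * b) u = φ a (φ b u)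
    rw [map_mul, MulAut.mul_apply]

theorem resU_coe (φ : Γ →* MulAut W) (U : Subgroup W) (g : stabU φ U) (u : U) :
    ((resU φ U g u : U) : W) = φ g u := rfl

/-- Frobenius action on an invariant abelian subgroup. -/
theorem frob_inv (φ : Γ →* MulAut W) (U : Subgroup W) [Finite U]
    (hU : ∀ a ∈ U, ∀ b ∈ U, a * b = b * a) (K : Subgroup Γ) [Finite K] (c : Γ)
    (hKU : ∀ k ∈ K, ∀ u ∈ U, φ k u ∈ U) (hcU : ∀ u ∈ U, φ c u ∈ U)
    (hcK : ∀ k ∈ K, c * k * c⁻¹ ∈ K) {n : ℕ} (hn : 0 < n) (hcn : c ^ n = 1)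
    (hfree : ∀ k ∈ K, ∀ j, 0 < j → j < n → c ^ j * k = k * c ^ j → k = 1)
    (hcop : (Nat.card K).Coprime (Nat.card U)) :
    (∀ k ∈ K, ∀ u ∈ U, φ k u = u) ∨ ∃ u ∈ U, u ≠ 1 ∧ φ c u = u := by
  by_cases hfix : ∃ u ∈ U, u ≠ 1 ∧ φ c u = u
  · exact Or.inr hfix
  left
  push Not at hfix
  let _ : CommGroup U := { (inferInstance : Group U) with
    mul_comm := fun a b => Subtype.ext (hU a a.2 b b.2) }
  have hKs : K ≤ stabU φ U := fun k hk => mem_stabU_of_finite φ U (hKU k hk)
  have hcs : c ∈ stabU φ U := mem_stabU_of_finite φ U hcU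
  let K' : Subgroup (stabU φ U) := K.subgroupOf (stabU φ U)
  have hK'card : Nat.card K' = Nat.card K :=
    Nat.card_congr (Subgroup.subgroupOfEquivOfLe hKs).toEquiv
  have : Finite K' := Finite.of_equiv K (Subgroup.subgroupOfEquivOfLe hKs).symm.toEquiv
  have h := frob_abs (resU φ U) K' ⟨c, hcs⟩ (fun k hk => hcK k hk) hn (Subtype.ext (by
      simpa using hcn)) (by
      intro k hk j hj0 hjn hkj
      apply Subtype.ext
      apply hfree k hk j hj0 hjn
      have := congrArg Subtype.val hkj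
      simpa using this) (by rw [hK'card]; exact hcop) (by
      intro u hu
      by_contra hu1
      have h1 : (u : W) ≠ 1 := fun h => hu1 (Subtype.ext h)
      exact hfix u u.2 h1 (congrArg Subtype.val hu))
  intro k hk u hu
  exact congrArg Subtype.val (h ⟨k, hKs hk⟩ hk ⟨u, hu⟩)

/-- for an element of prime order it suffices to look at the element itself -/
theorem commute_of_pow_prime {c k : Γ} {n : ℕ} (hn : n.Prime) (hcn : c ^ n = 1) {j : ℕ}
    (hj0 : 0 < j) (hjn : j < n) (h : c ^ j * k = k * c ^ j) : c * k = k * c := by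
  have hco : Nat.Coprime j n := by
    have := (Nat.Prime.coprime_iff_not_dvd hn).2 (Nat.not_dvd_of_pos_of_lt hj0 hjn)
    exact this.symm
  obtain ⟨m, hm⟩ := exists_pow_eq_self_of_coprime (x := c) (n := j)
    (hco.coprime_dvd_right (orderOf_dvd_of_pow_eq_one hcn))
  have h1 : Commute (c ^ j) k := h
  have h2 := h1.pow_left m
  rw [hm] at h2
  exact h2

/-- Frobenius action, element of prime order. -/
theorem frob_prime (φ : Γ →* MulAut W) (U : Subgroup W) [Finite U]
    (hU : ∀ a ∈ U, ∀ b ∈ U, a * b = b * a) (K : Subgroup Γ) [Finite K] (c : Γ)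
    (hKU : ∀ k ∈ K, ∀ u ∈ U, φ k u ∈ U) (hcU : ∀ u ∈ U, φ c u ∈ U)
    (hcK : ∀ k ∈ K, c * k * c⁻¹ ∈ K) {n : ℕ} (hn : n.Prime) (hcn : c ^ n = 1)
    (hfree : ∀ k ∈ K, c * k = k * c → k = 1)
    (hcop : (Nat.card K).Coprime (Nat.card U)) :
    (∀ k ∈ K, ∀ u ∈ U, φ k u = u) ∨ ∃ u ∈ U, u ≠ 1 ∧ φ c u = u :=
  frob_inv φ U hU K c hKU hcU hcK hn.pos hcn
    (fun k hk _ hj0 hjn h => hfree k hk (commute_of_pow_prime hn hcn hj0 hjn h)) hcop

/-- a noncyclic abelian group does not act freely on a nontrivial abelian group -/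
theorem exists_fixed_of_not_cyclic (φ : Γ →* MulAut W) (U : Subgroup W) [Finite U]
    (hU : ∀ a ∈ U, ∀ b ∈ U, a * b = b * a) (hU1 : U ≠ ⊥) (A : Subgroup Γ) [Finite A]
    (hA : ∀ a ∈ A, ∀ b ∈ A, a * b = b * a) (hAc : ¬ IsCyclic A)
    (hAU : ∀ a ∈ A, ∀ u ∈ U, φ a u ∈ U) :
    ∃ a ∈ A, a ≠ 1 ∧ ∃ u ∈ U, u ≠ 1 ∧ φ a u = u := by
  by_contra hcon
  push Not at hcon
  apply hAc
  let _ : CommGroup U := { (inferInstance : Group U) with
    mul_comm := fun a b => Subtype.ext (hU a a.2 b b.2) }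
  have : Nontrivial U := (Subgroup.nontrivial_iff_ne_bot U).2 hU1
  have hAs : A ≤ stabU φ U := fun k hk => mem_stabU_of_finite φ U (hAU k hk)
  refine Solvable.FixedPointFree.isCyclic_of_comm' (fun a b => Subtype.ext (hA a a.2 b b.2))
    ((resU φ U).comp (Subgroup.inclusion hAs)) ?_
  intro a ha v hv
  by_contra hv1
  have h1 : (v : W) ≠ 1 := fun h => hv1 (Subtype.ext h)
  have h2 : (a : Γ) ≠ 1 := fun h => ha (Subtype.ext h)
  exact hcon a a.2 h2 v v.2 h1 (congrArg Subtype.val hv)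

end Inv

end Cfsg.Agent.H456
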