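import Mathlib
import Cfsg.Agent.H566.BNPerm_m3
import Cfsg.Agent.S2730
import Cfsg.Agent.S2586
import Cfsg.Agent.S2589
import Cfsg.Agent.S0247
import Cfsg.Agent.H202.PspSplit
import Cfsg.Agent.H394.SqSzRee_m3
import Cfsg.Agent.Solvable.Glauberman
import Cfsg.Agent.H245.RankOnePSU
import Cfsg.Agent.H394.SqPsu3
import Cfsg.Agent.H44.SEofTI
import Cfsg.Agent.Blocks.ClassScalar
import Cfsg.Agent.HKS.EndU
import Cfsg.Agent.H478.RadTools_m3
import Cfsg.Agent.H242.StrP.FCUni
import Cfsg.Agent.H169.UAut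
import Cfsg.Agent.H202.Psu
import Cfsg.Agent.S2705
import Cfsg.Agent.S0283
import Cfsg.Agent.FastGrp
import Cfsg.Agent.Prune
set_option linter.all false

section
prune_inst 0x7ffcbcf9efb83ddfdfff7e7fffdddffff9bcdfffefdff9cbffe86bef2fdf230609c52bad0fe0d0ff0ee3629410b87853fb7eeeffe86fdc7ffffdfff41ffbee0ff5f7b50851d48c340fbc0fff03f0778a7f3fffffffffffffffffffffffffffbeffffffffffff

-- part: H456/PspGraph
section
prune_inst 0x3000210454220200001800002000006032000000004000000000010004888c40a8000801b00001100000084440380008110000300200000000000000011900a08000400282080104260009800000400000000000000000000000000000000000000000000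
set_option linter.all false
open scoped Cfsg.Agent.FastGrp

/-!
# S4114, the symplectic groups (helper456, for helper520)

For `Cfg α`, `α : MulAut (PSp m F)`, `m ≥ 2`, `(m, |F|) ≠ (2, 2)`, `r = char F`:

* `real_psp` : elements of odd prime order `≠ r` of `PSp m F` are real;
* `fix_phi` : `C_G(φ_σ)` is the image of `Sp_2m(F₀)`, `F₀` the fixed field, for `σ` of odd order;
* `no_odd` : no odd prime `p ≠ r` divides `|α|`;
* `row_psp_two` : `Row (PSp m F)` in characteristic two; in particular `psp_graph` (no graph type configurations);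
* `el_psp` : `ElRow r (PSp m F)`.
-/

set_option autoImplicit false

namespace Cfsg.Agent.H456.PspGraph

open Subgroup Cfsg
open scoped Matrix
open Cfsg.Agent.H520
open Cfsg.Agent.ClassicalGeometry.SympBasic Cfsg.Agent.ClassicalGeometry.SympAutSemi
  Cfsg.Agent.ClassicalGeometry.SympGamma Cfsg.Agent.ClassicalGeometry.SympAutExists
open Cfsg.Agent.H206.PspFix Cfsg.Agent.H206.PspBal
open Cfsg.Agent.LieClassical (SympCenter.mem_center_iff SympCenter.sq_eq_one_of_smul_mem)

universe u

/-- Elements of `Sp` of order prime to the characteristic are real. -/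
theorem real_sp {F : Type*} [Field F] [Fintype F] {r : ℕ} [Fact r.Prime] [CharP F r] {m : ℕ}
    (A : Matrix.symplecticGroup (Fin m) F) (hA : (orderOf A).Coprime r) :
    ∃ g : Matrix.symplecticGroup (Fin m) F, g * A * g⁻¹ = A⁻¹ :=
  isConj_iff.1 ((S2589.result (p := r) A A⁻¹ hA).2 (S2586.result A))

/-- Elements of odd prime order, not the characteristic, are real in `PSp`. -/
theorem real_psp {F : Type*} [Field F] [Fintype F] {r : ℕ} [hr : Fact r.Prime] [CharP F r] {m : ℕ} (hm : 1 ≤ m)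
    {p : ℕ} (hp : p.Prime) (hp2 : p ≠ 2) (hpr : p ≠ r) {y : PSp m F} (hy : orderOf y = p) :
    ∃ g : PSp m F, g * y * g⁻¹ = y⁻¹ := by
  obtain ⟨A, rfl⟩ := QuotientGroup.mk_surjective y
  have h0 : (QuotientGroup.mk (A ^ p) : PSp m F) = 1 := by
    rw [QuotientGroup.mk_pow, ← hy]
    exact pow_orderOf_eq_one _
  have h1 : A ^ p ∈ center (Matrix.symplecticGroup (Fin m) F) := (QuotientGroup.eq_one_iff _).1 h0
  obtain ⟨a, ha⟩ := (LieClassical.SympCenter.mem_center_iff m _).1 h1
  have haa := LieClassical.SympCenter.sq_eq_one_of_smul_mem (F := F) hm (ha ▸ (A ^ p).2)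
  have h2 : A ^ p * A ^ p = 1 := by
    apply Subtype.ext
    rw [Submonoid.coe_mul, ha, smul_mul_smul_comm, mul_one, haa, one_smul]
    rfl
  obtain ⟨k, hk⟩ := hp.odd_of_ne_two hp2
  have h3 : (A ^ (p + 1)) ^ p = 1 := by
    rw [← pow_mul, show (p + 1) * p = (p + p) * (k + 1) by rw [hk]; ring, pow_mul, pow_add A p p, h2, one_pow]
  have h4 : (QuotientGroup.mk (A ^ (p + 1)) : PSp m F) = QuotientGroup.mk A := by
    rw [pow_succ, QuotientGroup.mk_mul, h0, one_mul]
  have h5 : (orderOf (A ^ (p + 1))).Coprime r :=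
    Nat.Coprime.coprime_dvd_left (orderOf_dvd_of_pow_eq_one h3) ((Nat.coprime_primes hp hr.out).2 hpr)
  obtain ⟨g, hg⟩ := real_sp (A ^ (p + 1)) h5
  refine ⟨QuotientGroup.mk g, ?_⟩
  rw [← h4, ← QuotientGroup.mk_inv, ← QuotientGroup.mk_inv, ← hg]
  rfl

section Field

variable {F : Type u} [Field F] {m : ℕ}

theorem hj_fix (σ : F ≃+* F) : ∀ a, σ a = a ↔ ∃ b, (H966.Frob.fix σ).subtype b = a := by
  intro a
  constructor
  · intro h
    exact ⟨⟨a, h⟩, rfl⟩
  · rintro ⟨b, rfl⟩
    exact b.2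

/-- The fixed points of a standard field automorphism of odd order. -/
theorem fix_phi [Finite F] (hm1 : 1 ≤ m) {σ : F ≃+* F} {n : ℕ} (hn : Odd n) (hσ : σ ^ n = 1) :
    fixA (phi m F σ) = (psi m (H966.Frob.fix σ).subtype).range := by
  apply le_antisymm
  · intro c hc
    obtain ⟨s, rfl⟩ := QuotientGroup.mk_surjective c
    rw [mem_fixA, phi_mk, eq_comm, QuotientGroup.eq] at hc
    obtain ⟨a, ha⟩ := (LieClassical.SympCenter.mem_center_iff m _).1 hc
    have haa := LieClassical.SympCenter.sq_eq_one_of_smul_mem (F := F) hm1 (ha ▸ (s⁻¹ * mapSp m (σ : F →+* F) s).2)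
    have ha1 : a = 1 ∨ a = -1 := mul_self_eq_one_iff.1 haa
    have h3 : s.1.map σ = a • s.1 := by
      have h4 : mapSp m (σ : F →+* F) s = s * (s⁻¹ * mapSp m (σ : F →+* F) s) := by group
      have h5 := congrArg Subtype.val h4
      change s.1.map σ = s.1 * (s⁻¹ * mapSp m (σ : F →+* F) s).1 at h5
      rw [h5, ha, mul_smul_comm, mul_one]
    have hσa : ∀ n : ℕ, (σ ^ n) a = a := by
      intro n
      rcases ha1 with rfl | rfl
      · exact map_one _
      · rw [map_neg, map_one]
    have h6 : ∀ n : ℕ, s.1.map (σ ^ n) = a ^ n • s.1 := by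
      intro n
      induction n with
      | zero => ext i k; simp
      | succ n ih =>
        ext i k
        have h7 := congrFun (congrFun h3 i) k
        have h8 := congrFun (congrFun ih i) k
        rw [Matrix.map_apply, Matrix.smul_apply, smul_eq_mul] at h7 h8 ⊢
        rw [pow_succ, RingAut.mul_apply, h7, map_mul, hσa, h8, pow_succ]
        ring
    have h7 := h6 n
    rw [hσ] at h7
    have h8 : a = 1 := by
      rcases ha1 with h | h
      · exact h
      · rw [h, hn.neg_one_pow, neg_one_smul] at h7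
        by_cases h2F : (2 : F) = 0
        · rw [h]
          linear_combination -h2F
        · exfalso
          have h10 : s.1 = 0 := by
            ext i k
            have h11 := congrFun (congrFun h7 i) k
            have h12 : s.1 i k = -s.1 i k := h11
            have h13 : (2 : F) * s.1 i k = 0 := by linear_combination h12
            exact (mul_eq_zero.1 h13).resolve_left h2F
          have h11 : rho m F s (Pi.single (Sum.inl ⟨0, hm1⟩) 1) = rho m F s 0 := by
            rw [rho_apply, rho_apply, h10, Matrix.zero_mulVec, Matrix.zero_mulVec]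
          have h12 := congrFun ((rho m F s).injective h11) (Sum.inl ⟨0, hm1⟩)
          rw [Pi.single_eq_same] at h12
          exact one_ne_zero h12
    rw [h8, one_smul] at h3
    obtain ⟨B, hB⟩ := (mem_range_mapSp (hj_fix σ) (s := s)).2 (Subtype.ext h3)
    exact ⟨B, by rw [psi_apply, hB]⟩
  · rintro _ ⟨A, rfl⟩
    rw [mem_fixA, psi_apply, phi_mk, (mem_range_mapSp (hj_fix σ)).1 ⟨A, rfl⟩]

theorem not_solv_perm : ¬ Group.IsSolvable (Equiv.Perm (Fin 6)) :=
  Equiv.Perm.not_isSolvable (Fin 6) (by rw [Cardinal.mk_fin]; norm_num)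

/-- The solvable normal subgroups of `S_6`. -/
theorem nosol_six {R : Type*} [Group R] (e : R ≃* Equiv.Perm (Fin 6)) (N : Subgroup R) (hN : N.Normal)
    (hs : Group.IsSolvable N) : N = ⊥ := by
  by_contra hne
  have h1 : (N.map e.toMonoidHom).Normal := hN.map _ e.surjective
  have h2 : N.map e.toMonoidHom ≠ ⊥ := by
    intro h
    exact hne ((Subgroup.map_eq_bot_iff_of_injective _ e.injective).1 h)
  have h3 : alternatingGroup (Fin 6) ≤ N.map e.toMonoidHom := by
    have : Nontrivial (N.map e.toMonoidHom) := (Subgroup.nontrivial_iff_ne_bot _).2 h2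
    exact Equiv.Perm.alternatingGroup_le_of_normal (by rw [Nat.card_eq_fintype_card, Fintype.card_fin]; omega) this
  have h4 : Group.IsSolvable (N.map e.toMonoidHom) :=
    Group.isSolvable_of_surjective (f := e.toMonoidHom.subgroupMap N) (e.toMonoidHom.subgroupMap_surjective N)
  have h5 : Group.IsSolvable (alternatingGroup (Fin 6)) :=
    Group.isSolvable_of_isSolvable_injective (f := inclusion h3) (inclusion_injective h3)
  apply not_solv_perm
  refine (Group.isSolvable_iff_subgroup_quotient (alternatingGroup (Fin 6))).2 ⟨h5, ?_⟩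
  have h6 : (alternatingGroup (Fin 6)) = (Equiv.Perm.sign : Equiv.Perm (Fin 6) →* ℤˣ).ker := rfl
  exact Group.isSolvable_of_isSolvable_injective
    (f := QuotientGroup.kerLift (Equiv.Perm.sign : Equiv.Perm (Fin 6) →* ℤˣ))
    (QuotientGroup.kerLift_injective _)

/-- The images of `Sp` modulo the centre have no nontrivial solvable normal subgroups. -/
theorem nosol [Finite F] {X : Type*} [Group X] (hm : 2 ≤ m) (ψ : Matrix.symplecticGroup (Fin m) F →* X)
    (hker : ψ.ker = Subgroup.center _) (N : Subgroup ψ.range) (hN : N.Normal) (hs : Group.IsSolvable N) : N = ⊥ := by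
  have : Fintype F := Fintype.ofFinite F
  by_cases hc : m = 2 → 3 ≤ Fintype.card F
  · have hsimp := S0270.result (F := F) m hm hc
    let e : PSp m F ≃* ψ.range :=
      (QuotientGroup.quotientMulEquivOfEq hker.symm).trans (QuotientGroup.quotientKerEquivRange ψ)
    have hsimp' : IsSimpleGroup ψ.range := e.symm.isSimpleGroup
    rcases hsimp'.eq_bot_or_eq_top_of_normal _ hN with h | h
    · exact h
    · exfalso
      subst h
      have h1 : Group.IsSolvable ψ.range :=
        Group.isSolvable_of_surjective (f := (⊤ : Subgroup ψ.range).subtype) (fun x => ⟨⟨x, trivial⟩, rfl⟩)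
      have h2 : Group.IsSolvable (PSp m F) :=
        Group.isSolvable_of_surjective (f := e.symm.toMonoidHom) e.symm.surjective
      have h3 := IsSimpleGroup.comm_iff_isSolvable.2 h2
      obtain ⟨ℓ, hℓ⟩ := CharP.exists F
      have hℓp : Fact ℓ.Prime := ⟨CharP.char_is_prime F ℓ⟩
      obtain ⟨e1, e2, hee⟩ := exists_hyperbolic (F := F) (m := m) (by omega)
      have h4 := (commute_iff (F := F) ℓ (m := m) (by omega) (v := e1) (w := e2) one_ne_zero one_ne_zero).1 (h3 _ _)
      rw [hee] at h4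
      exact one_ne_zero h4
  · push Not at hc
    obtain ⟨rfl, hc⟩ := hc
    have hc2 : Fintype.card F = 2 := by
      have := Fintype.one_lt_card (α := F)
      omega
    obtain ⟨e⟩ := LieClassical.SpFourTwo.nonempty_equiv_perm hc2
    have h2 : (2 : F) = 0 := by
      have := Nat.cast_card_eq_zero F
      rw [hc2] at this
      exact_mod_cast this
    have hker' : ψ.ker = ⊥ := by
      rw [hker, eq_bot_iff]
      intro z hz
      obtain ⟨a, ha⟩ := (LieClassical.SympCenter.mem_center_iff 2 z).1 hz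
      have h3 := LieClassical.SympCenter.sq_eq_one_of_smul_mem (F := F) (m := 2) (by omega) (ha ▸ z.2)
      have h4 : a = 1 := by
        have h5 : (a - 1) * (a - 1) = 0 := by linear_combination h3 + (1 - a) * h2
        have := mul_self_eq_zero.1 h5
        exact sub_eq_zero.1 this
      rw [Subgroup.mem_bot]
      apply Subtype.ext
      rw [ha, h4, one_smul]
      rfl
    let e' : ψ.range ≃* Equiv.Perm (Fin 6) := (MonoidHom.ofInjective ((MonoidHom.ker_eq_bot_iff ψ).1 hker')).symm.trans e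
    exact nosol_six e' N hN hs

/-- If the standard field automorphism `φ_σ` of odd prime order is a power of `α`, then `α` is a power of `φ_σ`. -/
theorem mem_zpowers_phi [Finite F] (hm : 2 ≤ m) {α : MulAut (PSp m F)} (h : Cfg α) {σ : F ≃+* F} {p : ℕ}
    (hp : p.Prime) (hp2 : p ≠ 2) (hσ : orderOf σ = p) (hy : phi m F σ ∈ zpowers α) : α ∈ zpowers (phi m F σ) := by
  have hm1 : 1 ≤ m := by omega
  have hfin : Finite (Matrix.symplecticGroup (Fin m) F) := Subtype.finite
  have hfin' : Finite (PSp m F) := Quotient.finite _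
  have hσ1 : σ ≠ 1 := by
    rintro rfl
    rw [orderOf_one] at hσ
    exact hp.one_lt.ne hσ
  have hy1 : phi m F σ ≠ 1 := by
    intro h1
    apply hσ1
    apply phi_injective hm1
    rw [h1, map_one]
  have hfx := fix_phi (m := m) hm1 (hp.odd_of_ne_two hp2) (by rw [← hσ, pow_orderOf_eq_one] : σ ^ p = 1)
  have hfinK : Finite (H966.Frob.fix σ) := Subtype.finite
  have hinv : ∀ x ∈ fixA (phi m F σ), α x ∈ fixA (phi m F σ) :=
    Cfg.fixA_inv (Cfg.comm_zpowers hy (mem_zpowers α))
  have hcen := h.centralizes' (M := fixA (phi m F σ)) (E := fixA (phi m F σ)) (Cfg.fixA_ne_top hy1) hinv le_rfl hinv (by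
    rw [hfx]
    exact nosol hm _ (ker_psi _ hm1))
  apply eq_frob_of_fix hm
  intro v hv c hc
  apply hcen
  rw [mem_fixA]
  change phi m F σ (QuotientGroup.mk (transv v c)) = QuotientGroup.mk (transv v c)
  rw [phi_mk, transv_map, hc]
  congr 2
  funext i
  exact hv i

/-- **(F1) for the field automorphisms of odd order.** -/
theorem phi_false [Finite F] (hm : 2 ≤ m) {σ : F ≃+* F} (h : Cfg (phi m F σ)) {n : ℕ} (hn : Odd n)
    (hσ : σ ^ n = 1) : False := by
  have hm1 : 1 ≤ m := by omega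
  have : Fintype F := Fintype.ofFinite F
  have hfin : Finite (Matrix.symplecticGroup (Fin m) F) := Subtype.finite
  have hfin' : Finite (PSp m F) := Quotient.finite _
  obtain ⟨ℓ, hℓ⟩ := CharP.exists F
  have hℓp : Fact ℓ.Prime := ⟨CharP.char_is_prime F ℓ⟩
  have hσ1 : σ ≠ 1 := by
    rintro rfl
    exact h.ne (map_one _)
  -- a difference which is a nonzero square
  obtain ⟨c, s, hs, hcs⟩ : ∃ c s : F, s ≠ 0 ∧ σ c - c = s * s := by
    obtain ⟨c₀, hc₀⟩ : ∃ c, σ c ≠ c := by
      by_contra hcon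
      push Not at hcon
      exact hσ1 (RingEquiv.ext hcon)
    have hd : σ c₀ - c₀ ≠ 0 := sub_ne_zero.2 hc₀
    by_cases hsq : IsSquare (σ c₀ - c₀)
    · obtain ⟨s, hs⟩ := hsq
      exact ⟨c₀, s, by rintro rfl; exact hd (by rw [hs, mul_zero]), hs⟩
    · have h2 : (2 : F) ≠ 0 := by
        intro h2
        have hchar : CharP F 2 := CharTwo.of_one_ne_zero_of_two_eq_zero one_ne_zero h2
        exact hsq (FiniteField.isSquare_of_char_two (ringChar.eq_iff.2 hchar) _)
      have hfinK : Finite (H966.Frob.fix σ) := Subtype.finite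
      have hK2 : ringChar (H966.Frob.fix σ) ≠ 2 := by
        intro h3
        apply h2
        have h4 : ((2 : ℕ) : H966.Frob.fix σ) = 0 := by
          rw [← h3]
          exact ringChar.Nat.cast_ringChar
        have h5 := congrArg (H966.Frob.fix σ).subtype h4
        rw [map_natCast, map_zero] at h5
        exact_mod_cast h5
      obtain ⟨f, hf⟩ := FiniteField.exists_nonsquare hK2
      have hf0 : (f : F) ≠ 0 := by
        intro h3
        apply hf
        have : f = 0 := Subtype.ext h3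
        rw [this]
        exact ⟨0, by simp⟩
      have hfF : ¬ IsSquare (f : F) := fun h3 =>
        hf (H202.PspSplit.isSquare_of_map (hj_fix σ) h2 hn hσ (c := f) h3)
      obtain ⟨s, hs⟩ := H202.PspSplit.isSquare_mul_of_not hf0 hd hfF hsq
      refine ⟨f * c₀, s, ?_, ?_⟩
      · rintro rfl
        rw [mul_zero] at hs
        exact mul_ne_zero hf0 hd hs
      · have h3 : σ (f : F) = f := f.2
        rw [map_mul, h3, ← hs]
        ring
  let i0 : Fin m ⊕ Fin m := Sum.inl ⟨0, hm1⟩
  let v : Fin m ⊕ Fin m → F := Pi.single i0 1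
  have hv : v ≠ 0 := by
    intro h0
    have := congrFun h0 i0
    simp only [v, Pi.single_eq_same, Pi.zero_apply] at this
    exact one_ne_zero this
  have hσv : (fun i => σ (v i)) = v := by
    funext k
    by_cases hk : k = i0
    · subst hk; simp [v]
    · simp only [v]
      rw [Pi.single_eq_of_ne hk, map_zero]
  have hph : ∀ c : F, phi m F σ (QuotientGroup.mk (transv v c)) = QuotientGroup.mk (transv v (σ c)) := by
    intro c
    rw [phi_mk, transv_map, hσv]
  obtain ⟨g, -, hg⟩ := exists_transvGroup_mulVec_eq (F := F) (smul_ne_zero hs hv) hv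
  have hg' : g • (s • v) = v := hg
  have h1 := h.ccp.not_conj (g := QuotientGroup.mk (transv v c)) (k := QuotientGroup.mk g)
    (c := QuotientGroup.mk (transv v 1)) (by rw [hph, map_one]) (by
      rw [hph, ← QuotientGroup.mk_inv, ← QuotientGroup.mk_mul, ClassicalGeometry.SympSiegel.transv_inv,
        ClassicalGeometry.SympSiegel.transv_mul, neg_add_eq_sub, hcs,
        show s * s = s ^ 2 * 1 by ring, ← ClassicalGeometry.SympSiegel.transv_smul_vec,
        ← QuotientGroup.mk_mul, ← QuotientGroup.mk_inv, ← QuotientGroup.mk_mul,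
        ClassicalGeometry.SympSiegel.conj_transv, hg'])
  exact pr_transv_ne_one ℓ hm1 hv one_ne_zero h1

end Field

/-- **No odd prime different from the characteristic divides the order of `α`.** -/
theorem no_odd {F : Type u} [Field F] [Fintype F] {r : ℕ} [hr : Fact r.Prime] [CharP F r] {m : ℕ} (hm : 2 ≤ m)
    (hs : m = 2 → 3 ≤ Fintype.card F) {α : MulAut (PSp m F)} (h : Cfg α) {p : ℕ} (hp : p.Prime) (hp2 : p ≠ 2)
    (hpr : p ≠ r) : ¬ p ∣ orderOf α := by
  intro hd
  have hm1 : 1 ≤ m := by omega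
  have hfin : Finite (Matrix.symplecticGroup (Fin m) F) := Subtype.finite
  have hfin' : Finite (PSp m F) := Quotient.finite _
  have hpf : Fact p.Prime := ⟨hp⟩
  obtain ⟨y, hy, hyo⟩ := exists_prime_order hp hd
  by_cases hin : IsInnerDiagonalAutPSp y
  · -- `y` is inner
    have h1 : y ∈ inndiagPSp m F := subset_closure hin
    have h2 : y ∈ (MulAut.conj : PSp m F →* MulAut (PSp m F)).range := by
      by_cases h2 : (2 : F) = 0
      · rw [← H966.PSpAut.inndiag_eq_inner h2]
        exact h1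
      · have hr2 : ringChar F ≠ 2 := by
          intro h3
          apply h2
          have h4 : ((2 : ℕ) : F) = 0 := by
            rw [← h3]
            exact ringChar.Nat.cast_ringChar
          exact_mod_cast h4
        have h3 := H202.PspSplit.relIndex_inn (F := F) hm1 hr2
        obtain ⟨k, hk⟩ := hp.odd_of_ne_two hp2
        have h4 : y = (y ^ (k + 1)) * (y ^ (k + 1)) := by
          have h4 := pow_orderOf_eq_one y
          rw [hyo, hk] at h4
          rw [← pow_add, show k + 1 + (k + 1) = (2 * k + 1) + 1 by ring, pow_succ, h4, one_mul]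
        have h5 := Subgroup.mul_self_mem_of_index_two (H := (Inn (PSp m F)).subgroupOf (inndiagPSp m F)) h3
          ⟨y ^ (k + 1), pow_mem h1 _⟩
        rw [Subgroup.mem_subgroupOf] at h5
        have h6 : y ^ (k + 1) * y ^ (k + 1) ∈ Inn (PSp m F) := h5
        rw [← h4] at h6
        exact h6
    obtain ⟨y0, rfl⟩ := h2
    have h3 : orderOf y0 = p := by
      rw [← hyo]
      exact (orderOf_injective MulAut.conj (fun a b hab => conj_inj h.center_bot hab) y0).symm
    obtain ⟨g, hg⟩ := real_psp hm1 hp hp2 hpr h3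
    have h4 := h.sq_eq_one_of_real hy hg
    have h5 := orderOf_dvd_of_pow_eq_one h4
    rw [h3] at h5
    exact hp2 ((Nat.prime_dvd_prime_iff_eq hp Nat.prime_two).1 h5)
  · obtain ⟨σ, β, hσ, hβ⟩ := S2730.exists_phi (F := F) hm hs hpr y hyo hin
    have hcg := h.congr β⁻¹
    have e : ∀ x : MulAut (PSp m F), MulAut.congr (β⁻¹ : MulAut (PSp m F)) x = β⁻¹ * x * β := fun x => rfl
    rw [e] at hcg
    have h1 : phi m F σ ∈ zpowers (β⁻¹ * α * β) := by
      obtain ⟨i, hi⟩ := hy
      have hi' : α ^ i = y := hi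
      refine ⟨i, ?_⟩
      change (β⁻¹ * α * β) ^ i = phi m F σ
      have h2 : (β⁻¹ * α * (β⁻¹)⁻¹) ^ i = β⁻¹ * α ^ i * (β⁻¹)⁻¹ := conj_zpow
      rw [inv_inv] at h2
      rw [h2, hi', hβ]
      group
    have h2 := mem_zpowers_phi hm hcg hp hp2 hσ h1
    obtain ⟨j, hj⟩ := h2
    have hj' : β⁻¹ * α * β = phi m F (σ ^ j) := by
      rw [map_zpow]
      exact hj.symm
    rw [hj'] at hcg
    refine phi_false hm hcg (hp.odd_of_ne_two hp2) ?_
    rw [← zpow_natCast, ← zpow_mul, mul_comm, zpow_mul, zpow_natCast, ← hσ, pow_orderOf_eq_one, one_zpow]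

/-- `2` divides `|PSp|`. -/
theorem two_dvd_psp {F : Type u} [Field F] [Finite F] {m : ℕ} (hm : 1 ≤ m) : 2 ∣ Nat.card (PSp m F) := by
  have h1 := two_dvd (F₀ := F) hm (QuotientGroup.mk' (center (Matrix.symplecticGroup (Fin m) F)))
    (QuotientGroup.ker_mk' _)
  rw [MonoidHom.range_eq_top.2 (QuotientGroup.mk'_surjective _), card_top] at h1
  exact h1

/-- **The row of the symplectic groups in characteristic two.** -/
theorem row_psp_two {F : Type u} [Field F] [Fintype F] [CharP F 2] {m : ℕ} (hm : 2 ≤ m)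
    (hs : m = 2 → 3 ≤ Fintype.card F) : Row (PSp m F) := by
  intro α h
  have hfin : Finite (Matrix.symplecticGroup (Fin m) F) := Subtype.finite
  have hfin' : Finite (PSp m F) := Quotient.finite _
  obtain ⟨p, hp, hp2, hd⟩ := h.exists_prime_ne Nat.prime_two (two_dvd_psp (F := F) (m := m) (by omega))
  exact no_odd (r := 2) hm hs h hp hp2 hp2 hd

/-- The row of the symplectic groups in characteristic two. -/
theorem row_psp_char_two {G : Type u} [Group G] (h : IsPSpChar 2 G) : Row G := by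
  obtain ⟨F, _, _, _, m, hm, hs, ⟨e⟩⟩ := h
  exact (row_psp_two hm hs).congr e

end Cfsg.Agent.H456.PspGraph
end

-- part: H763/Ccp/PsuTame
section
prune_inst 0x4300000080002000000000200000004000001000023000069010d02000003220d002700008004014802a200000000000000004000100000000004000005002080a812003100a10406000f801080080c00000000000000000000000000000000000000000
set_option linter.all false
open scoped Cfsg.Agent.FastGrp

-- part: H763/Ccp/Syl
section
/-!
# S4114: automorphisms of groups whose Sylow `r`-subgroups are TI and which are 2-transitive on them (helper763)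

* `Tame r G` : the Sylow `r`-subgroups are TI and there are `1 + |P|` of them;
* `Two` : an automorphism fixing two Sylow subgroups fixes all of them (`fix_all`);
* `exists_two` : an `r'`-automorphism fixing a Sylow subgroup fixes a second one;
-/

set_option autoImplicit false

namespace Cfsg.Agent.H763.Ccp

open Subgroup Cfsg Cfsg.Agent.H520

universe u

variable {G : Type u} [Group G] {r : ℕ}

/-- The Sylow `r`-subgroups are TI, and `P` is regular on the other ones. -/
structure Tame (r : ℕ) (G : Type*) [Group G] : Prop where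
  ti : ∀ P Q : Sylow r G, P ≠ Q → (P : Subgroup G) ⊓ Q = ⊥
  card : ∀ P : Sylow r G, Nat.card (Sylow r G) = 1 + Nat.card P
  dvd : r ∣ Nat.card G

namespace Tame

variable [Finite G] [hr : Fact r.Prime]

theorem eq_one (h : Tame r G) {P Q : Sylow r G} (hPQ : P ≠ Q) {u : G} (hu : u ∈ (P : Subgroup G)) (hf : u • Q = Q) :
    u = 1 := by
  have h1 : u ∈ (Q : Subgroup G) :=
    H394.SqTI.mem_of_mem_normalizer Q P.isPGroup' hu (Sylow.smul_eq_iff_mem_normalizer.1 hf)
  have h2 : u ∈ (P : Subgroup G) ⊓ Q := ⟨hu, h1⟩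
  rw [h.ti P Q hPQ] at h2
  exact mem_bot.1 h2

theorem smul_self {P : Sylow r G} {u : G} (hu : u ∈ (P : Subgroup G)) : u • P = P :=
  Sylow.smul_eq_iff_mem_normalizer.2 (le_normalizer hu)

theorem inj (h : Tame r G) {P Q : Sylow r G} (hQ : Q ≠ P) {u v : G} (hu : u ∈ (P : Subgroup G))
    (hv : v ∈ (P : Subgroup G)) (e : u • Q = v • Q) : u = v := by
  have h1 : (v⁻¹ * u) • Q = Q := by rw [mul_smul, e, inv_smul_smul]
  have h2 := h.eq_one hQ.symm (mul_mem (inv_mem hv) hu) h1
  exact (inv_mul_eq_one.1 h2).symm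

theorem smul_ne {P Q : Sylow r G} (hQ : Q ≠ P) {u : G} (hu : u ∈ (P : Subgroup G)) : u • Q ≠ P := by
  intro h1
  apply hQ
  rw [← smul_self hu] at h1
  exact smul_left_cancel u h1

/-- `P` is transitive on the other Sylow subgroups -/
theorem exists_smul (h : Tame r G) {P Q R : Sylow r G} (hQ : Q ≠ P) (hR : R ≠ P) :
    ∃ u ∈ (P : Subgroup G), u • Q = R := by
  classical
  let f : ↥(P : Subgroup G) → {R : Sylow r G // R ≠ P} := fun u => ⟨(u : G) • Q, smul_ne hQ u.2⟩
  have hf : Function.Injective f := by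
    intro u v e
    exact Subtype.ext (h.inj hQ u.2 v.2 (congrArg Subtype.val e))
  have hc : Nat.card {R : Sylow r G // R ≠ P} = Nat.card ↥(P : Subgroup G) := by
    have h1 := h.card P
    have h2 : Nat.card {R : Sylow r G // R ≠ P} + 1 = Nat.card (Sylow r G) := by
      have := Fintype.ofFinite (Sylow r G)
      rw [Nat.card_eq_fintype_card, Nat.card_eq_fintype_card, Fintype.card_subtype_compl, Fintype.card_subtype_eq]
      have : 0 < Fintype.card (Sylow r G) := Fintype.card_pos
      omega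
    omega
  have hb : Function.Bijective f := (Nat.bijective_iff_injective_and_card f).2 ⟨hf, hc.symm⟩
  obtain ⟨u, hu⟩ := hb.2 ⟨R, hR⟩
  exact ⟨u, u.2, congrArg Subtype.val hu⟩

/-- 2-transitivity -/
theorem two (h : Tame r G) {P Q P' Q' : Sylow r G} (hPQ : P ≠ Q) (hPQ' : P' ≠ Q') :
    ∃ g : G, g • P = P' ∧ g • Q = Q' := by
  obtain ⟨g, hg⟩ := MulAction.exists_smul_eq G P P'
  have h1 : g • Q ≠ P' := by
    intro h2
    apply hPQ
    rw [← hg] at h2
    exact (smul_left_cancel g h2).symm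
  obtain ⟨u, hu, hu'⟩ := h.exists_smul h1 hPQ'.symm
  refine ⟨u * g, ?_, ?_⟩
  · rw [mul_smul, hg, smul_self hu]
  · rw [mul_smul, hu']

theorem exists_ne (h : Tame r G) (P : Sylow r G) : ∃ Q : Sylow r G, Q ≠ P := by
  by_contra hcon
  push Not at hcon
  have h1 : Nat.card (Sylow r G) = 1 := by
    rw [Nat.card_eq_one_iff_unique]
    exact ⟨⟨fun a b => (hcon a).trans (hcon b).symm⟩, ⟨P⟩⟩
  have h2 := h.card P
  have h3 : 0 < Nat.card P := Nat.card_pos
  omega

end Tame

/-! ### The action of the automorphisms -/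

/-- the twisted equivariance -/
theorem aut_smul_smul (α : MulAut G) (g : G) (P : Sylow r G) : α • (g • P) = (α g) • (α • P) := by
  rw [Sylow.smul_def, Sylow.smul_def, smul_smul, smul_smul]
  congr 1
  have h1 := aut_conj α g
  rw [mul_inv_eq_iff_eq_mul] at h1
  exact h1

theorem mem_aut_smul {α : MulAut G} {P : Sylow r G} {x : G} (hx : x ∈ (P : Subgroup G)) :
    α x ∈ ((α • P : Sylow r G) : Subgroup G) :=
  Subgroup.smul_mem_pointwise_smul x α (P : Subgroup G) hx

theorem mem_of_fix {α : MulAut G} {P : Sylow r G} (hα : α • P = P) {x : G} (hx : x ∈ (P : Subgroup G)) :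
    α x ∈ (P : Subgroup G) := by
  have := mem_aut_smul (α := α) hx
  rwa [hα] at this

theorem zpow_fix {α β : MulAut G} {P : Sylow r G} (hα : α • P = P) (hβ : β ∈ zpowers α) : β • P = P := by
  have h1 : zpowers α ≤ MulAction.stabilizer (MulAut G) P := by
    rw [zpowers_le]
    exact hα
  exact h1 hβ

/-- an automorphism which is not elliptic fixes a Sylow subgroup -/
theorem exists_fix [Finite G] [hr : Fact r.Prime] (h : Tame r G) {α : MulAut G} (hE : ¬ EL r α) :
    ∃ P : Sylow r G, α • P = P := by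
  unfold EL at hE
  push Not at hE
  obtain ⟨R, hR, hi, hR1⟩ := hE
  obtain ⟨P, hP⟩ := hR.exists_le_sylow
  refine ⟨P, ?_⟩
  by_contra hne
  obtain ⟨x, hx, hx1⟩ := (R.bot_or_exists_ne_one).resolve_left hR1
  have h1 : α x ∈ ((α • P : Sylow r G) : Subgroup G) := mem_aut_smul (hP hx)
  have h2 : α x ∈ (P : Subgroup G) := hP (hi x hx)
  have h3 : α x ∈ ((α • P : Sylow r G) : Subgroup G) ⊓ P := ⟨h1, h2⟩
  rw [h.ti _ _ hne, mem_bot] at h3
  exact hx1 (by rwa [map_eq_one_iff α α.injective] at h3)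

/-- a coprime automorphism fixing `P` fixes a second Sylow subgroup -/
theorem exists_second [Finite G] [hr : Fact r.Prime] (h : Tame r G) {y : MulAut G} (hy : ¬ r ∣ orderOf y)
    {P : Sylow r G} (hyP : y • P = P) : ∃ Q : Sylow r G, Q ≠ P ∧ y • Q = Q := by
  obtain ⟨Q, hQ⟩ := h.exists_ne P
  let K : Subgroup (MulAut G) := (P : Subgroup G).map (MulAut.conj : G →* MulAut G)
  let A : Subgroup (MulAut G) := zpowers y
  have hAP : ∀ a ∈ A, a • P = P := fun a ha => zpow_fix hyP ha
  have hAK : A ≤ normalizer (K : Set (MulAut G)) := by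
    have h0 : ∀ a ∈ A, ∀ k ∈ K, a * k * a⁻¹ ∈ K := by
      rintro a ha _ ⟨u, hu, rfl⟩
      exact ⟨a u, mem_of_fix (hAP a ha) hu, (aut_conj a u).symm⟩
    intro a ha
    rw [mem_normalizer_iff]
    intro k
    refine ⟨h0 a ha k, fun hk => ?_⟩
    have := h0 a⁻¹ (inv_mem ha) _ hk
    rwa [inv_inv, show a⁻¹ * (a * k * a⁻¹) * a = k by group] at this
  have hcop : (Nat.card A).Coprime (Nat.card K) := by
    have h1 : IsPGroup r K := P.isPGroup'.map _
    obtain ⟨k, hk⟩ := IsPGroup.iff_card.1 h1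
    rw [hk, Nat.card_zpowers]
    exact Nat.Coprime.pow_right k ((Nat.Prime.coprime_iff_not_dvd hr.out).2 hy).symm
  have hsolv : Group.IsSolvable A := inferInstance
  obtain ⟨k, hk, hfix⟩ := Solvable.Glauberman.exists_smul_fixed A K hAK hcop (Or.inl hsolv) Q (by
    intro a ha
    have h1 : a • Q ≠ P := by
      intro h2
      apply hQ
      rw [← hAP a ha] at h2
      exact smul_left_cancel a h2
    obtain ⟨u, hu, hu'⟩ := h.exists_smul hQ h1
    exact ⟨MulAut.conj u, ⟨u, hu, rfl⟩, hu'.symm⟩)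
  obtain ⟨u, hu, rfl⟩ := hk
  refine ⟨u • Q, Tame.smul_ne hQ hu, ?_⟩
  exact hfix y (mem_zpowers y)

end Cfsg.Agent.H763.Ccp
end

-- part: H763/Ccp/SylTwo
section
/-!
# S4114: two involutions in a Sylow subgroup fixed by `y ∈ ⟨α⟩` (helper763)

* `cM_conj` : `[M, α]` is normalised by `M`;
* `comm_lt` : `[K, K] < K` for a nontrivial solvable subgroup;
* `no_two_invol` : for `1 ≠ y ∈ ⟨α⟩` fixing two Sylow subgroups there are no two involutions in `C_P(y)`, if `α` fixes the
  Sylow subgroup `P` only.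
-/

set_option autoImplicit false

namespace Cfsg.Agent.H763.Ccp

open Subgroup Cfsg Cfsg.Agent.H520
open scoped commutatorElement

universe u

variable {G : Type u} [Group G] {r : ℕ}

/-- `[M, α]` is normalised by `M` -/
theorem cM_conj [Finite G] (α : MulAut G) {M : Subgroup G} (hM : ∀ m ∈ M, α m ∈ M) {m k : G} (hm : m ∈ M)
    (hk : k ∈ cM α M) : m * k * m⁻¹ ∈ cM α M := by
  rw [← map_cG_resA α M hM] at hk ⊢
  obtain ⟨z, hz, rfl⟩ := hk
  have hn : (cG (resA α M hM)).Normal := cG_normal _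
  exact ⟨(⟨m, hm⟩ * z * ⟨m, hm⟩⁻¹ :), hn.conj_mem z hz _, rfl⟩

/-- `[K, K] < K` -/
theorem comm_lt {K : Subgroup G} (hs : Group.IsSolvable K) (hK : K ≠ ⊥) : ⁅K, K⁆ < K := by
  have : Nontrivial K := (Subgroup.nontrivial_iff_ne_bot K).2 hK
  have h1 : (⁅(⊤ : Subgroup K), ⊤⁆ : Subgroup K) < ⊤ := Group.IsSolvable.commutator_lt_top_of_nontrivial K
  have h2 : (⁅(⊤ : Subgroup K), ⊤⁆ : Subgroup K).map K.subtype = ⁅K, K⁆ := by
    rw [map_commutator, ← MonoidHom.range_eq_map, K.range_subtype]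
  rw [← h2]
  refine lt_of_le_of_ne (map_subtype_le _) fun h3 => ?_
  apply h1.ne
  rw [eq_top_iff]
  intro x _
  have h4 : (x : G) ∈ (⁅(⊤ : Subgroup K), ⊤⁆ : Subgroup K).map K.subtype := by rw [h3]; exact x.2
  obtain ⟨z, hz, e⟩ := h4
  have : z = x := Subtype.ext e
  rwa [← this]

/-- elements of `Q` moving a fixed Sylow subgroup to a fixed Sylow subgroup are fixed -/
theorem fix_of_smul [Finite G] [hr : Fact r.Prime] (h : Tame r G) {y : MulAut G} {Q R R' : Sylow r G} (hQ : y • Q = Q)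
    (hR : y • R = R) (hR' : y • R' = R') (hRQ : R ≠ Q) {u : G} (hu : u ∈ (Q : Subgroup G)) (e : u • R = R') :
    y u = u := by
  apply h.inj hRQ (mem_of_fix hQ hu) hu
  rw [e, ← hR', ← e, aut_smul_smul, hR]

/-- **No two involutions** -/
theorem no_two_invol [Finite G] [hr : Fact r.Prime] (h : Tame r G) {α : MulAut G} (hα : Cfg α) {y : MulAut G}
    (hy : y ∈ zpowers α) (hy1 : y ≠ 1) {P Q : Sylow r G} (hP : α • P = P) (huniq : ∀ Q : Sylow r G, α • Q = Q → Q = P)
    (hQ : Q ≠ P) (hyQ : y • Q = Q) {a b : G} (ha : a ∈ (P : Subgroup G)) (hb : b ∈ (P : Subgroup G)) (hab : a ≠ b)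
    (ha2 : a * a = 1) (hb2 : b * b = 1) (ha1 : a ≠ 1) (hb1 : b ≠ 1) (hya : y a = a) (hyb : y b = b) : False := by
  have hyP : y • P = P := zpow_fix hP hy
  have hcomm : Commute y α := Cfg.comm_zpowers hy (mem_zpowers α)
  have hMt : fixA y ≠ ⊤ := Cfg.fixA_ne_top hy1
  have hMi : ∀ m ∈ fixA y, α m ∈ fixA y := Cfg.fixA_inv hcomm
  have hsol := hα.min _ hMt hMi
  -- the fixed Sylow subgroups are permuted by the fixed elements
  have hfix : ∀ m ∈ fixA y, ∀ R : Sylow r G, y • R = R → y • (m • R) = m • R := by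
    intro m hm R hR
    rw [aut_smul_smul, hR, mem_fixA.1 hm]
  -- an element of `M` moving `P` to `Q`
  obtain ⟨m, hm, hmP⟩ : ∃ m ∈ fixA y, m • P = Q := by
    have h1 : a • Q ≠ Q := fun h2 => ha1 (h.eq_one hQ.symm ha h2)
    obtain ⟨w, hw, hw'⟩ := h.exists_smul (P := Q) (Q := P) (R := a • Q) hQ.symm h1
    have haQ : y • (a • Q) = a • Q := hfix a hya Q hyQ
    have h2 : y w = w := fix_of_smul h hyQ hyP haQ hQ.symm hw hw'
    refine ⟨a⁻¹ * w, mul_mem (inv_mem (mem_fixA.2 hya)) (mem_fixA.2 h2), ?_⟩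
    rw [mul_smul, hw', inv_smul_smul]
  -- involutions of `P`
  have hinv : ∀ c : G, c ∈ (P : Subgroup G) → c * c = 1 → c ≠ 1 → ∀ X : Sylow r G, c • X = X → X = P := by
    intro c hc _ hc1 X hX
    by_contra hne
    exact hc1 (h.eq_one (Ne.symm hne) hc hX)
  -- solvable normal subgroups act trivially
  have key : ∀ n : ℕ, ∀ K : Subgroup G, Nat.card K = n → Group.IsSolvable K → K ≤ fixA y →
      (∀ m ∈ fixA y, ∀ k ∈ K, m * k * m⁻¹ ∈ K) → ∀ k ∈ K, k • P = P := by
    intro n
    induction n using Nat.strong_induction_on with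
    | _ n ih =>
    intro K hn hK hKM hKn k hk
    by_cases hKb : K = ⊥
    · rw [hKb, mem_bot] at hk
      rw [hk, one_smul]
    have hlt : ⁅K, K⁆ < K := comm_lt hK hKb
    have hK' : Group.IsSolvable (⁅K, K⁆ : Subgroup G) :=
      Group.isSolvable_of_isSolvable_injective (f := inclusion hlt.le) (inclusion_injective hlt.le)
    have hK'n : ∀ m ∈ fixA y, ∀ k ∈ (⁅K, K⁆ : Subgroup G), m * k * m⁻¹ ∈ (⁅K, K⁆ : Subgroup G) := by
      intro m hm k hk
      have h1 : (⁅K, K⁆ : Subgroup G) ≤ (⁅K, K⁆ : Subgroup G).comap (MulAut.conj m).toMonoidHom := by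
        rw [commutator_le]
        intro g₁ hg₁ g₂ hg₂
        show m * ⁅g₁, g₂⁆ * m⁻¹ ∈ (⁅K, K⁆ : Subgroup G)
        have h2 : m * ⁅g₁, g₂⁆ * m⁻¹ = ⁅m * g₁ * m⁻¹, m * g₂ * m⁻¹⁆ := by
          rw [commutatorElement_def, commutatorElement_def]; group
        rw [h2]
        exact commutator_mem_commutator (hKn m hm _ hg₁) (hKn m hm _ hg₂)
      exact h1 hk
    have ih' := ih (Nat.card (⁅K, K⁆ : Subgroup G)) (by
      rw [← hn]
      exact lt_of_not_ge fun h3 => hlt.ne (eq_of_le_of_card_ge hlt.le h3)) (⁅K, K⁆ : Subgroup G) rfl hK' (hlt.le.trans hKM) hK'n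
    -- commutators fix the fixed Sylow subgroups `m • P`
    have htr : ∀ x ∈ (⁅K, K⁆ : Subgroup G), ∀ g ∈ fixA y, x • (g • P) = g • P := by
      intro x hx g hg
      have h1 := ih' (g⁻¹ * x * g) (by
        have := hK'n g⁻¹ (inv_mem hg) x hx
        rwa [inv_inv] at this)
      calc x • (g • P) = g • ((g⁻¹ * x * g) • P) := by rw [← mul_smul, ← mul_smul]; congr 1; group
        _ = g • P := by rw [h1]
    -- the element `c = k (a k a⁻¹)`
    have hc : ∀ a : G, a ∈ (P : Subgroup G) → a * a = 1 → a ≠ 1 → y a = a → a • (k • P) = k⁻¹ • P := by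
      intro a ha ha2 ha1 hya
      set k1 := a * k * a⁻¹ with hk1
      have hk1K : k1 ∈ K := hKn a (mem_fixA.2 hya) k hk
      have haP : a • P = P := Tame.smul_self ha
      have hainv : a⁻¹ = a := inv_eq_of_mul_eq_one_right ha2
      have h1 : a * (k * k1) * a⁻¹ = ⁅k1, k⁆ * (k * k1) := by
        rw [commutatorElement_def, hk1, hainv]
        have h2 : a * (k * (a * k * a)) * a = (a * k * a) * (k * (a * a)) := by group
        rw [h2, ha2, mul_one]
        group
      have h2 : a • ((k * k1) • P) = (k * k1) • P := by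
        have h3 : a • ((k * k1) • P) = (a * (k * k1) * a⁻¹) • (a • P) := by
          rw [← mul_smul, ← mul_smul]; congr 1; group
        rw [h3, haP, h1, mul_smul]
        exact htr _ (commutator_mem_commutator hk1K hk) _ (mul_mem (hKM hk) (hKM hk1K))
      have h3 := hinv a ha ha2 ha1 _ h2
      have h4 : k1 • P = k⁻¹ • P := by rw [eq_inv_smul_iff, ← mul_smul, h3]
      rw [← h4, hk1]
      have h5 : (a * k * a⁻¹) • (a • P) = a • (k • P) := by rw [← mul_smul, ← mul_smul]; congr 1; group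
      rw [← h5, haP]
    have h1 := hc a ha ha2 ha1 hya
    have h2 := hc b hb hb2 hb1 hyb
    by_contra hne
    apply hab
    have h3 : (b⁻¹ * a) • (k • P) = k • P := by rw [mul_smul, h1, ← h2, inv_smul_smul]
    have h4 := h.eq_one (Ne.symm hne) (mul_mem (inv_mem hb) ha) h3
    exact (inv_mul_eq_one.1 h4).symm
  have hK := key _ (cM α (fixA y)) rfl hsol (cM_le α hMi) (fun m hm k hk => cM_conj α hMi hm hk)
  -- `α` fixes `Q`
  apply hQ
  apply huniq
  have h1 := hK _ (mem_cM α hm)
  rw [← hmP, aut_smul_smul, hP]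
  have h2 : α m = m * (m⁻¹ * α m) := by group
  rw [h2, mul_smul, h1]

end Cfsg.Agent.H763.Ccp
end

-- part: H763/Ccp/TwoFix
section
/-!
# S4114: automorphisms of 2-transitive groups (helper763)

`fix_all` : let `G` be 2-transitive on `D` and `a` an `α`-equivariant map `D → D`, where `α` satisfies `CCP`. If `a` fixes
two points then it fixes all points.

Proof by counting: the elements `t ∈ T = {g⁻¹ α(g)}` with `t (a d) = f` are `b₀` (`d = f`) or `b₁` (`d ≠ f`) in number, and
`C × T → G` is bijective.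
-/

set_option autoImplicit false

namespace Cfsg.Agent.H763.Ccp

open Finset Cfsg.Agent.H520

theorem fix_all {G : Type*} [Group G] [Finite G] {D : Type*} [Finite D] [MulAction G D] {α : MulAut G} (hα : CCP α)
    (a : D → D) (ha : ∀ (g : G) (d : D), a (g • d) = α g • a d)
    (h2 : ∀ x y x' y' : D, x ≠ y → x' ≠ y' → ∃ g : G, g • x = x' ∧ g • y = y') {d₀ d₁ : D} (hne : d₀ ≠ d₁)
    (h0 : a d₀ = d₀) (h1 : a d₁ = d₁) : ∀ d, a d = d := by
  classical
  have := Fintype.ofFinite G
  have := Fintype.ofFinite D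
  let T : Finset G := univ.filter fun t => ∃ g, t = g⁻¹ * α g
  let C : Finset G := univ.filter fun c => α c = c
  have hT : ∀ t, t ∈ T ↔ ∃ g, t = g⁻¹ * α g := fun t => by simp only [T, _root_.Finset.mem_filter, _root_.Finset.mem_univ, _root_.true_and]
  have hC : ∀ c, c ∈ C ↔ α c = c := fun c => by simp [C]
  let B : D → D → ℕ := fun d f => (T.filter fun t => t • a d = f).card
  let A : D → D → ℕ := fun f e => (C.filter fun c => c • f = e).card
  -- transitivity
  have htr : ∀ x y : D, ∃ g : G, g • x = y := by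
    intro x y
    have hx : ∃ x' : D, x ≠ x' := by
      by_cases h : x = d₀
      · exact ⟨d₁, by rw [h]; exact hne⟩
      · exact ⟨d₀, h⟩
    have hy : ∃ y' : D, y ≠ y' := by
      by_cases h : y = d₀
      · exact ⟨d₁, by rw [h]; exact hne⟩
      · exact ⟨d₀, h⟩
    obtain ⟨x', hx'⟩ := hx
    obtain ⟨y', hy'⟩ := hy
    obtain ⟨g, hg, -⟩ := h2 x x' y y' hx' hy'
    exact ⟨g, hg⟩
  -- invariance of `B`
  have hB : ∀ (g : G) (d f : D), B (g • d) (g • f) = B d f := by
    intro g d f
    refine (Finset.card_bij (fun t _ => g * t * (α g)⁻¹) ?_ ?_ ?_).symm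
    · intro t ht
      rw [mem_filter, hT] at ht ⊢
      obtain ⟨⟨k, rfl⟩, ht⟩ := ht
      refine ⟨⟨k * g⁻¹, by rw [map_mul, map_inv]; group⟩, ?_⟩
      rw [ha, ← ht]
      simp only [mul_smul, inv_smul_smul]
    · intro t _ t' _ e
      exact mul_left_cancel (mul_right_cancel e)
    · intro t ht
      rw [mem_filter, hT] at ht
      obtain ⟨⟨k, rfl⟩, ht⟩ := ht
      refine ⟨g⁻¹ * (k⁻¹ * α k) * α g, ?_, by group⟩
      rw [mem_filter, hT]
      refine ⟨⟨k * g, by rw [map_mul]; group⟩, ?_⟩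
      rw [ha] at ht
      rw [mul_smul, mul_smul, ht, inv_smul_smul]
  obtain ⟨b₀, hb₀⟩ : ∃ b, b = B d₀ d₀ := ⟨_, rfl⟩
  obtain ⟨b₁, hb₁⟩ : ∃ b, b = B d₀ d₁ := ⟨_, rfl⟩
  have hBd : ∀ d, B d d = b₀ := by
    intro d
    obtain ⟨g, rfl⟩ := htr d₀ d
    rw [hB, hb₀]
  have hBn : ∀ d f, d ≠ f → B d f = b₁ := by
    intro d f hdf
    obtain ⟨g, rfl, rfl⟩ := h2 d₀ d₁ d f hne hdf
    rw [hB, hb₁]
  -- the sums
  have hsA : ∀ e, ∑ f, A f e = C.card := by
    intro e
    rw [Finset.card_eq_sum_card_fiberwise (f := fun c : G => c⁻¹ • e) (s := C) (t := univ) (fun _ _ => mem_univ _)]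
    refine sum_congr rfl fun f _ => ?_
    show (C.filter fun c => c • f = e).card = (C.filter fun c => c⁻¹ • e = f).card
    congr 1
    ext c
    simp only [mem_filter]
    rw [inv_smul_eq_iff, eq_comm]
  have hsB : ∀ d, ∑ f, B d f = T.card := by
    intro d
    rw [Finset.card_eq_sum_card_fiberwise (f := fun t : G => t • a d) (s := T) (t := univ) (fun _ _ => mem_univ _)]
  have hprod : ∀ d e, ∑ f, B d f * A f e = (univ.filter fun x : G => x • a d = e).card := by
    intro d e
    let X : Finset (G × G) := (C ×ˢ T).filter fun z => (z.1 * z.2) • a d = e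
    have hX : X.card = (univ.filter fun x : G => x • a d = e).card := by
      refine Finset.card_bij (fun z _ => z.1 * z.2) ?_ ?_ ?_
      · intro z hz
        rw [mem_filter] at hz ⊢
        exact ⟨mem_univ _, hz.2⟩
      · rintro ⟨c, t⟩ hz ⟨c', t'⟩ hz' e1
        rw [mem_filter, mem_product, hC, hT] at hz hz'
        obtain ⟨⟨hc, ⟨g, ht⟩⟩, -⟩ := hz
        obtain ⟨⟨hc', ⟨g', ht'⟩⟩, -⟩ := hz'
        have hc : α c = c := hc
        have hc' : α c' = c' := hc'
        have ht : t = g⁻¹ * α g := ht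
        have ht' : t' = g'⁻¹ * α g' := ht'
        have e1 : c * t = c' * t' := e1
        have e2 : c * (g⁻¹ * α g) = c' * (g'⁻¹ * α g') := by rw [← ht, ← ht']; exact e1
        have h3 : c = c' := hα.uniq hc hc' e2
        subst h3
        have h4 : t = t' := mul_left_cancel e1
        rw [h4]
      · intro x hx
        obtain ⟨c, g, hc, e1⟩ := hα x
        refine ⟨(c, g⁻¹ * α g), ?_, e1.symm⟩
        rw [mem_filter, mem_product, hC, hT]
        refine ⟨⟨hc, ⟨g, rfl⟩⟩, ?_⟩
        rw [mem_filter] at hx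
        show (c * (g⁻¹ * α g)) • a d = e
        rw [← e1]
        exact hx.2
    rw [← hX, Finset.card_eq_sum_card_fiberwise (f := fun z : G × G => z.2 • a d) (s := X) (t := univ)
      (fun _ _ => mem_univ _)]
    refine sum_congr rfl fun f _ => ?_
    have h3 : (X.filter fun z => z.2 • a d = f) = (C.filter fun c => c • f = e) ×ˢ (T.filter fun t => t • a d = f) := by
      ext ⟨c, t⟩
      simp only [X, mem_filter, mem_product]
      constructor
      · rintro ⟨⟨⟨hc, ht⟩, he⟩, hf⟩
        refine ⟨⟨hc, ?_⟩, ht, hf⟩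
        rw [← hf, ← mul_smul, he]
      · rintro ⟨⟨hc, he⟩, ht, hf⟩
        refine ⟨⟨⟨hc, ht⟩, ?_⟩, hf⟩
        rw [mul_smul, hf, he]
    rw [h3, card_product, mul_comm]
  have hS : ∀ d e e', (univ.filter fun x : G => x • a d = e).card = (univ.filter fun x : G => x • a d = e').card := by
    intro d e e'
    obtain ⟨g, rfl⟩ := htr e e'
    refine Finset.card_bij (fun x _ => g * x) ?_ ?_ ?_
    · intro x hx
      rw [mem_filter] at hx ⊢
      exact ⟨mem_univ _, by rw [mul_smul, hx.2]⟩
    · intro x _ x' _ e1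
      exact mul_left_cancel e1
    · intro x hx
      rw [mem_filter] at hx
      refine ⟨g⁻¹ * x, ?_, by group⟩
      rw [mem_filter]
      exact ⟨mem_univ _, by rw [mul_smul, hx.2, inv_smul_smul]⟩
  -- the sum over `f`
  have hsum : ∀ d e, ((∑ f, B d f * A f e : ℕ) : ℤ) = b₁ * (C.card : ℤ) + ((b₀ : ℤ) - b₁) * A d e := by
    intro d e
    rw [← hsA e]
    push_cast
    rw [mul_sum]
    have h3 : ∀ f, ((B d f : ℕ) : ℤ) * (A f e : ℤ) = b₁ * (A f e : ℤ) + (if f = d then ((b₀ : ℤ) - b₁) * A d e else 0) := by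
      intro f
      split_ifs with hf
      · subst hf
        rw [hBd]; ring
      · rw [hBn d f (Ne.symm hf)]; ring
    rw [sum_congr rfl fun f _ => h3 f, sum_add_distrib, sum_ite_eq' univ d, if_pos (mem_univ d)]
  by_cases hb : b₀ = b₁
  · exfalso
    -- the number of fixed points is one
    have h3 : T.card = Fintype.card D * b₀ := by
      rw [← hsB d₀]
      have h4 : ∀ f, B d₀ f = b₀ := by
        intro f
        by_cases hf : d₀ = f
        · rw [← hf, hBd]
        · rw [hBn _ _ hf, hb]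
      rw [sum_congr rfl fun f _ => h4 f, sum_const, card_univ, smul_eq_mul]
    have h4 : ∑ d, B d d = Fintype.card D * b₀ := by
      rw [sum_congr rfl fun d _ => hBd d, sum_const, card_univ, smul_eq_mul]
    let Fx : Finset D := univ.filter fun d => a d = d
    have h5 : ∑ d, B d d = T.card * Fx.card := by
      have h6 : ∀ d, B d d = ∑ t ∈ T, if t • a d = d then 1 else 0 := fun d => Finset.card_filter _ _
      rw [sum_congr rfl fun d _ => h6 d, sum_comm]
      rw [← smul_eq_mul, ← sum_const]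
      refine sum_congr rfl fun t ht => ?_
      rw [← Finset.card_filter]
      obtain ⟨k, rfl⟩ := (hT t).1 ht
      refine Finset.card_bij (fun d _ => k • d) ?_ ?_ ?_
      · intro d hd
        rw [mem_filter] at hd ⊢
        refine ⟨mem_univ _, ?_⟩
        have h7 := hd.2
        rw [mul_smul, inv_smul_eq_iff] at h7
        rw [ha, h7]
      · intro d _ d' _ e
        exact smul_left_cancel k e
      · intro d hd
        rw [mem_filter] at hd
        refine ⟨k⁻¹ • d, ?_, by rw [smul_inv_smul]⟩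
        rw [mem_filter]
        refine ⟨mem_univ _, ?_⟩
        rw [ha, hd.2, mul_smul, map_inv, smul_inv_smul]
    have hTpos : 0 < T.card := card_pos.2 ⟨1, (hT 1).2 ⟨1, by simp only [_root_.inv_one, _root_.map_one, _root_.mul_one]⟩⟩
    have h6 : Fx.card = 1 := by
      have h7 : T.card * Fx.card = T.card * 1 := by rw [← h5, h4, ← h3, mul_one]
      exact Nat.eq_of_mul_eq_mul_left hTpos h7
    have h7 : 1 < Fx.card := by
      rw [Finset.one_lt_card]
      exact ⟨d₀, by simp only [Fx, h0, _root_.Finset.mem_filter, _root_.Finset.mem_univ, _root_.and_self], d₁, by simp only [Fx, h1, _root_.Finset.mem_filter, _root_.Finset.mem_univ, _root_.and_self], hne⟩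
    omega
  · intro e
    have h3 : A d₀ e = A d₀ d₀ := by
      have h4 : ((∑ f, B d₀ f * A f e : ℕ) : ℤ) = ((∑ f, B d₀ f * A f d₀ : ℕ) : ℤ) := by
        rw [hprod, hprod, hS d₀ e d₀]
      rw [hsum, hsum] at h4
      have h5 : ((b₀ : ℤ) - b₁) * ((A d₀ e : ℤ) - A d₀ d₀) = 0 := by linarith only [h4]
      rcases mul_eq_zero.1 h5 with h6 | h6
      · exfalso
        apply hb
        have : (b₀ : ℤ) = b₁ := by linarith only [h6]
        exact_mod_cast this
      · have : (A d₀ e : ℤ) = A d₀ d₀ := by linarith only [h6]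
        exact_mod_cast this
    have h4 : 0 < A d₀ d₀ := card_pos.2 ⟨1, by rw [mem_filter, hC]; exact ⟨map_one α, one_smul _ _⟩⟩
    rw [← h3] at h4
    obtain ⟨c, hc⟩ := card_pos.1 h4
    rw [mem_filter, hC] at hc
    rw [← hc.2, ha, hc.1, h0]

end Cfsg.Agent.H763.Ccp
end

-- part: H763/Ccp/SylMain
section
/-!
# S4114: elliptic automorphisms of the groups with TI Sylow `r`-subgroups, 2-transitive on them (helper763)

* `uniq_fix` : `α` fixes at most one Sylow subgroup;
* `el_two` : `r = 2`: `α` is elliptic, if the involutions are conjugate and the involutions of a Sylow subgroup commute (and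
  there are at least two of them);
* `el_odd` : `r` odd: `α` is elliptic, if elements of order `r` are real and the centraliser of an outer automorphism of order
  `r` has no nontrivial solvable normal subgroup.
-/

set_option autoImplicit false

namespace Cfsg.Agent.H763.Ccp

open Subgroup Cfsg Cfsg.Agent.H520

universe u

variable {G : Type u} [Group G] {r : ℕ}

/-- **`α` fixes at most one Sylow subgroup.** -/
theorem uniq_fix [Finite G] [hr : Fact r.Prime] (h : Tame r G) {α : MulAut G} (hα : Cfg α) {P Q : Sylow r G}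
    (hP : α • P = P) (hQ : α • Q = Q) : Q = P := by
  by_contra hne
  have hall := fix_all hα.ccp (fun R : Sylow r G => α • R) (fun g d => aut_smul_smul α g d)
    (fun x y x' y' hxy hxy' => h.two hxy hxy') (d₀ := P) (d₁ := Q) (Ne.symm hne) hP hQ
  -- the kernel
  let K : Subgroup G := (MulAction.toPermHom G (Sylow r G)).ker
  have hK : ∀ g : G, g ∈ K ↔ ∀ R : Sylow r G, g • R = R := by
    intro g
    rw [MonoidHom.mem_ker, Equiv.ext_iff]
    rfl
  have := hα.sim
  rcases Subgroup.Normal.eq_bot_or_eq_top (inferInstance : K.Normal) with h1 | h1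
  · apply hα.ne
    ext g
    have h2 : g⁻¹ * α g ∈ K := by
      rw [hK]
      intro R
      have h3 : α • (g • R) = g • R := hall (g • R)
      rw [aut_smul_smul] at h3
      have h4 : α • R = R := hall R
      rw [h4] at h3
      rw [mul_smul, h3, inv_smul_smul]
    rw [h1, mem_bot] at h2
    exact (inv_mul_eq_one.1 h2).symm
  · obtain ⟨g, hg⟩ := MulAction.exists_smul_eq G P Q
    have h2 : g ∈ K := by rw [h1]; trivial
    rw [hK] at h2
    exact hne (by rw [← hg, h2])

/-- the automorphism is not of order prime to `r` -/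
theorem dvd_order [Finite G] [hr : Fact r.Prime] (h : Tame r G) {α : MulAut G} (hα : Cfg α) {P : Sylow r G}
    (hP : α • P = P) : r ∣ orderOf α := by
  by_contra hcon
  obtain ⟨Q, hQ, hQ'⟩ := exists_second h hcon hP
  exact hQ (uniq_fix h hα hP hQ')

/-- a Sylow subgroup fixed by `y ∈ ⟨α⟩` of order prime to `r` contains fixed elements of `y` -/
theorem exists_fixed_elt [Finite G] [hr : Fact r.Prime] (h : Tame r G) {α : MulAut G} (hα : Cfg α) {P : Sylow r G}
    (hP : α • P = P) {y : MulAut G} (hy : y ∈ zpowers α) {Q : Sylow r G} (hQ : Q ≠ P) (hyQ : y • Q = Q) :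
    ∃ u ∈ (P : Subgroup G), u ≠ 1 ∧ y u = u := by
  have hyP : y • P = P := zpow_fix hP hy
  have hcomm : y * α = α * y := (Cfg.comm_zpowers hy (mem_zpowers α)).eq
  have h1 : α • Q ≠ Q := fun h2 => hQ (uniq_fix h hα hP h2)
  have h2 : y • (α • Q) = α • Q := by rw [smul_smul, hcomm, ← smul_smul, hyQ]
  have h3 : α • Q ≠ P := by
    intro h4
    apply hQ
    rw [← hP] at h4
    exact smul_left_cancel α h4
  obtain ⟨u, hu, hu'⟩ := h.exists_smul hQ h3
  refine ⟨u, hu, ?_, ?_⟩
  · rintro rfl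
    rw [one_smul] at hu'
    exact h1 hu'.symm
  · exact fix_of_smul h hyP hyQ h2 hQ hu hu'

/-- **The case `r = 2`.** -/
theorem el_two [Finite G] (h : Tame 2 G) {α : MulAut G} (hα : Cfg α)
    (hinv : ∀ s t : G, orderOf s = 2 → orderOf t = 2 → IsConj s t)
    (hcomm : ∀ P : Sylow 2 G, ∀ s ∈ (P : Subgroup G), ∀ t ∈ (P : Subgroup G), s * s = 1 → t * t = 1 → s * t = t * s)
    (h2 : ∀ P : Sylow 2 G, ∃ a ∈ (P : Subgroup G), ∃ b ∈ (P : Subgroup G), a ≠ b ∧ a * a = 1 ∧ b * b = 1 ∧ a ≠ 1 ∧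
      b ≠ 1) : EL 2 α := by
  have hp : Fact (Nat.Prime 2) := ⟨Nat.prime_two⟩
  by_contra hE
  obtain ⟨P, hP⟩ := exists_fix h hE
  have huniq : ∀ Q : Sylow 2 G, α • Q = Q → Q = P := fun Q hQ => uniq_fix h hα hP hQ
  obtain ⟨x, y, hx, hy, hα', hxo, hyo, -⟩ := exists_ppart α 2
  have hxy : Commute x y := Cfg.comm_zpowers hx hy
  have hy1 : y ≠ 1 := by
    rintro rfl
    rw [one_mul] at hα'
    obtain ⟨k, hk⟩ := hxo
    exact hα.not_primepow h.dvd k (by rw [hα']; exact hk)
  have hyP : y • P = P := zpow_fix hP hy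
  have hxP : x • P = P := zpow_fix hP hx
  obtain ⟨Q, hQ, hyQ⟩ := exists_second h hyo hyP
  obtain ⟨u, hu, hu1, hyu⟩ := exists_fixed_elt h hα hP hy hQ hyQ
  -- an involution fixed by `y`
  obtain ⟨t, ht, ht1, ht2, hyt⟩ : ∃ t ∈ (P : Subgroup G), t ≠ 1 ∧ t * t = 1 ∧ y t = t := by
    obtain ⟨k, hk⟩ := IsPGroup.iff_orderOf.1 P.isPGroup' ⟨u, hu⟩
    have hk' : orderOf u = 2 ^ k := by
      rw [← hk]
      exact orderOf_injective (P : Subgroup G).subtype (subtype_injective _) ⟨u, hu⟩
    have hk0 : k ≠ 0 := by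
      rintro rfl
      rw [pow_zero, orderOf_eq_one_iff] at hk'
      exact hu1 hk'
    have h3 : orderOf (u ^ 2 ^ (k - 1)) = 2 := by
      have h4 : 2 ^ k / 2 ^ (k - 1) = 2 := by
        obtain ⟨j, rfl⟩ : ∃ j, k = j + 1 := ⟨k - 1, by omega⟩
        rw [Nat.add_sub_cancel, pow_succ, Nat.mul_div_cancel_left _ (by positivity)]
      rw [orderOf_pow_of_dvd (by positivity) (by rw [hk']; exact pow_dvd_pow 2 (Nat.sub_le k 1)), hk', h4]
    refine ⟨u ^ 2 ^ (k - 1), pow_mem hu _, ?_, ?_, by rw [map_pow, hyu]⟩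
    · intro h4
      rw [h4, orderOf_one] at h3
      exact absurd h3 (by norm_num)
    · have h5 := pow_orderOf_eq_one (u ^ 2 ^ (k - 1))
      rw [h3, pow_two] at h5
      exact h5
  -- the subgroup of the involutions of `P` fixed by `y`
  let Z : Subgroup G :=
    { carrier := {s | s ∈ (P : Subgroup G) ∧ s * s = 1 ∧ y s = s}
      one_mem' := ⟨one_mem _, one_mul 1, map_one y⟩
      mul_mem' := by
        rintro s s' ⟨hs, hs2, hys⟩ ⟨hs', hs2', hys'⟩
        refine ⟨mul_mem hs hs', ?_, by rw [map_mul, hys, hys']⟩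
        have h3 := hcomm P s hs s' hs' hs2 hs2'
        calc s * s' * (s * s') = s * (s' * s) * s' := by group
          _ = (s * s) * (s' * s') := by rw [← h3]; group
          _ = 1 := by rw [hs2, hs2', one_mul]
      inv_mem' := by
        rintro s ⟨hs, hs2, hys⟩
        rw [inv_eq_of_mul_eq_one_right hs2]
        exact ⟨hs, hs2, hys⟩ }
  have hxZ : ∀ s ∈ Z, x s ∈ Z := by
    rintro s ⟨hs, hs2, hys⟩
    refine ⟨mem_of_fix hxP hs, by rw [← map_mul, hs2, map_one], ?_⟩
    calc y (x s) = (y * x) s := rfl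
      _ = (x * y) s := by rw [hxy.eq]
      _ = x (y s) := rfl
      _ = x s := by rw [hys]
  have hZ2 : 2 ∣ Nat.card Z := by
    have h3 : (⟨t, ht, ht2, hyt⟩ : Z) ≠ 1 := fun h4 => ht1 (congrArg Subtype.val h4)
    have h4 : (⟨t, ht, ht2, hyt⟩ : Z) ^ 2 = 1 := by
      rw [pow_two]
      exact Subtype.ext ht2
    rw [← orderOf_eq_prime h4 h3]
    exact _root_.orderOf_dvd_natCard _
  obtain ⟨t₁, ht₁, ht₁1, hxt₁⟩ : ∃ t₁ ∈ Z, t₁ ≠ 1 ∧ x t₁ = t₁ := by
    have h3 := dvd_fixA_of_relem (r := 2) hZ2 (z := resA x Z hxZ) (by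
      obtain ⟨k, hk⟩ := hxo
      obtain ⟨j, -, hj⟩ := (Nat.dvd_prime_pow Nat.prime_two).1 (hk ▸ orderOf_resA_dvd x Z hxZ)
      exact ⟨j, hj⟩)
    have h4 : fixA (resA x Z hxZ) ≠ ⊥ := by
      intro h5
      rw [h5, card_bot] at h3
      exact absurd h3 (by norm_num)
    obtain ⟨z, hz, hz1⟩ := ((fixA (resA x Z hxZ)).bot_or_exists_ne_one).resolve_left h4
    exact ⟨z.1, z.2, fun h5 => hz1 (Subtype.ext h5), congrArg Subtype.val hz⟩
  have hαt : α t₁ = t₁ := by
    rw [hα', MulAut.mul_apply, hxt₁, ht₁.2.2]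
  have hot : ∀ s : G, s * s = 1 → s ≠ 1 → orderOf s = 2 := fun s hs hs1 =>
    orderOf_eq_prime (by rw [pow_two]; exact hs) hs1
  -- `α` centralises all involutions of `P`
  have hfix : ∀ s ∈ (P : Subgroup G), s * s = 1 → α s = s := by
    intro s hs hs2
    by_contra hne
    have hαs : α s ∈ (P : Subgroup G) := mem_of_fix hP hs
    have hαs2 : α s * α s = 1 := by rw [← map_mul, hs2, map_one]
    have h3 : s⁻¹ * α s ≠ 1 := fun h4 => hne (inv_mul_eq_one.1 h4).symm
    have h4 : (s⁻¹ * α s) * (s⁻¹ * α s) = 1 := by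
      rw [inv_eq_of_mul_eq_one_right hs2]
      have h5 := hcomm P s hs (α s) hαs hs2 hαs2
      calc s * α s * (s * α s) = s * (α s * s) * α s := by group
        _ = (s * s) * (α s * α s) := by rw [← h5]; group
        _ = 1 := by rw [hs2, hαs2, one_mul]
    obtain ⟨g, hg⟩ := isConj_iff.1 (hinv _ _ (hot _ h4 h3) (hot t₁ ht₁.2.1 ht₁1))
    exact ht₁1 (hα.ccp.not_conj hαt hg)
  have hyfix : ∀ s : G, α s = s → y s = s := by
    intro s hs
    have h3 : zpowers α ≤ MulAction.stabilizer (MulAut G) s := by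
      rw [zpowers_le]; exact hs
    exact h3 hy
  obtain ⟨a, ha, b, hb, hab, ha2, hb2, ha1, hb1⟩ := h2 P
  exact no_two_invol h hα hy hy1 hP huniq hQ hyQ ha hb hab ha2 hb2 ha1 hb1 (hyfix a (hfix a ha ha2))
    (hyfix b (hfix b hb hb2))

/-- **The case `r` odd.** -/
theorem el_odd [Finite G] [hr : Fact r.Prime] (hr2 : r ≠ 2) (h : Tame r G) {α : MulAut G} (hα : Cfg α)
    (hreal : ∀ u : G, orderOf u = r → IsConj u u⁻¹)
    (hout : ∀ x : MulAut G, orderOf x = r → (∀ u : G, x ≠ MulAut.conj u) →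
      ∀ N : Subgroup ↥(fixA x), N.Normal → Group.IsSolvable N → N = ⊥) : EL r α := by
  by_contra hE
  obtain ⟨P, hP⟩ := exists_fix h hE
  obtain ⟨x, hx, hxo⟩ := exists_prime_order hr.out (dvd_order h hα hP)
  by_cases hin : ∃ u : G, x = MulAut.conj u
  · obtain ⟨u, rfl⟩ := hin
    have hou : orderOf u = r := by
      have h1 : Function.Injective (MulAut.conj : G →* MulAut G) := fun a b hab => conj_inj hα.center_bot hab
      rw [← hxo]
      exact (orderOf_injective _ h1 u).symm
    obtain ⟨g, hg⟩ := isConj_iff.1 (hreal u hou)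
    have h1 := hα.sq_eq_one_of_real hx hg
    have h2 : r ∣ 2 := by rw [← hou]; exact orderOf_dvd_of_pow_eq_one h1
    exact hr2 ((Nat.prime_dvd_prime_iff_eq hr.out Nat.prime_two).1 h2)
  · push Not at hin
    have hx1 : x ≠ 1 := by
      rintro rfl
      rw [orderOf_one] at hxo
      exact hr.out.one_lt.ne hxo
    have hMi : ∀ m ∈ fixA x, α m ∈ fixA x := Cfg.fixA_inv (Cfg.comm_zpowers hx (mem_zpowers α))
    have hno := hout x hxo hin
    have hfix : ∀ m ∈ fixA x, α m = m :=
      hα.centralizes' (Cfg.fixA_ne_top hx1) hMi le_rfl hMi hno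
    -- `C_G(x)` fixes `P`
    have hMP : ∀ m ∈ fixA x, m • P = P := by
      intro m hm
      refine uniq_fix h hα hP ?_
      rw [aut_smul_smul, hP, hfix m hm]
    -- a nontrivial `r`-element
    have h1 : r ∣ Nat.card (fixA x) := dvd_fixA_of_relem h.dvd ⟨1, by rw [hxo, pow_one]⟩
    obtain ⟨m, hm⟩ := exists_prime_orderOf_dvd_card' r h1
    let N : Subgroup ↥(fixA x) := (P : Subgroup G).subgroupOf (fixA x)
    have hNn : N.Normal := by
      constructor
      intro n hn g
      rw [mem_subgroupOf] at hn ⊢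
      have h2 : (g : G) ∈ normalizer ((P : Subgroup G) : Set G) :=
        Sylow.smul_eq_iff_mem_normalizer.1 (hMP g g.2)
      exact (mem_normalizer_iff.1 h2 _).1 hn
    have hNs : Group.IsSolvable N := by
      have h2 : IsPGroup r N := P.isPGroup'.comap_of_injective (fixA x).subtype (subtype_injective _)
      have h3 : Group.IsNilpotent N := h2.isNilpotent
      infer_instance
    have hNb := hno N hNn hNs
    have hmN : m ∈ N := by
      rw [mem_subgroupOf]
      refine H394.SqTI.mem_of_mem_normalizer P (S := zpowers (m : G)) ?_ (mem_zpowers _)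
        (Sylow.smul_eq_iff_mem_normalizer.1 (hMP m m.2))
      refine IsPGroup.of_card (n := 1) ?_
      rw [Nat.card_zpowers, pow_one, ← hm]
      exact orderOf_injective (fixA x).subtype (subtype_injective _) m
    rw [hNb, mem_bot] at hmN
    rw [hmN, orderOf_one] at hm
    exact hr.out.one_lt.ne hm

end Cfsg.Agent.H763.Ccp
end

-- part: H763/Ccp/PsuTame
section
/-!
# S4114: `PSU₃(q)`: the Sylow subgroups in the defining characteristic (helper763)

* `tame` : `Tame r (PSU₃(q))`;
* `ne_even` : `q` even: every automorphism with `Cfg α` is elliptic.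
-/

set_option autoImplicit false

namespace Cfsg.Agent.H763.Ccp.Psu

open Subgroup Cfsg Cfsg.Agent.H520 Cfsg.Agent.H763.Ccp

variable {F : Type} [Field F] [Fintype F] {q : ℕ}

/-- numbers -/
theorem numbers (hF : Fintype.card F = q ^ 2) (hq : q ≠ 2) {r : ℕ} [hr : Fact r.Prime] [CharP F r] :
    3 ≤ q ∧ ∃ n, n ≠ 0 ∧ q = r ^ n ∧ ∃ d h, d ∣ 3 ∧ d ∣ q + 1 ∧ 0 < d ∧ q ^ 2 - 1 = d * h ∧
      Nat.card (PSU 3 F q) = q ^ 3 * ((q ^ 3 + 1) * h) ∧ ¬ r ∣ h ∧ h < q ^ 3 := by
  obtain ⟨N, -, hN⟩ := FiniteField.card F r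
  obtain ⟨n, hn⟩ : ∃ n, q = r ^ n := by
    have h1 : q ∣ r ^ (N : ℕ) := by rw [← hN, hF]; exact dvd_pow_self q (by norm_num)
    obtain ⟨n, -, hn⟩ := (Nat.dvd_prime_pow hr.out).1 h1
    exact ⟨n, hn⟩
  have hn0 : n ≠ 0 := by
    rintro rfl
    rw [pow_zero] at hn
    rw [hn, one_pow] at hF
    have := Fintype.one_lt_card (α := F)
    omega
  have hq2 : 2 ≤ q := by
    rw [hn]
    calc 2 ≤ r := hr.out.two_le
      _ = r ^ 1 := (pow_one r).symm
      _ ≤ r ^ n := Nat.pow_le_pow_right hr.out.pos (by omega)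
  have hq3 : 3 ≤ q := by omega
  have hpq : r ∣ q := hn ▸ dvd_pow_self r hn0
  have hcard := H394.SqPsu3.card_psu3 hF
  obtain ⟨d, hd⟩ : ∃ d, d = Nat.gcd 3 (q + 1) := ⟨_, rfl⟩
  rw [← hd] at hcard
  have hd3 : d ∣ 3 := hd ▸ Nat.gcd_dvd_left _ _
  have hdq1 : d ∣ q + 1 := hd ▸ Nat.gcd_dvd_right _ _
  have hdq : d ∣ q ^ 2 - 1 := by
    have h2 : q ^ 2 - 1 = (q + 1) * (q - 1) := by
      have := Nat.sq_sub_sq q 1
      rwa [one_pow] at this
    rw [h2]; exact hdq1.mul_right _
  obtain ⟨h, hh⟩ := hdq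
  have hd0 : 0 < d := Nat.pos_of_dvd_of_pos hd3 (by norm_num)
  have hq1 : 1 ≤ q ^ 2 := Nat.one_le_pow _ _ (by omega)
  have hph : ¬ r ∣ h := by
    intro h1
    have h2 : r ∣ q ^ 2 - 1 := by rw [hh]; exact h1.mul_left _
    have h3 : r ∣ q ^ 2 - (q ^ 2 - 1) := Nat.dvd_sub (hpq.trans (dvd_pow_self q (by norm_num))) h2
    rw [Nat.sub_sub_self hq1] at h3
    exact hr.out.one_lt.ne' (Nat.dvd_one.1 h3)
  have hhle : h ≤ q ^ 2 - 1 := by rw [hh]; exact Nat.le_mul_of_pos_left _ hd0
  have hq23 : q ^ 2 ≤ q ^ 3 := Nat.pow_le_pow_right (by omega) (by norm_num)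
  refine ⟨hq3, n, hn0, hn, d, h, hd3, hdq1, hd0, hh, ?_, hph, by omega⟩
  rw [hh] at hcard
  apply Nat.eq_of_mul_eq_mul_left hd0
  rw [hcard]; ring

/-- the order of the Sylow subgroups -/
theorem card_sylow (hF : Fintype.card F = q ^ 2) (hq : q ≠ 2) {r : ℕ} [hr : Fact r.Prime] [CharP F r]
    [Finite (PSU 3 F q)] (P : Sylow r (PSU 3 F q)) : Nat.card P = q ^ 3 := by
  obtain ⟨hq3, n, hn0, hn, d, h, hd3, hdq1, hd0, hh, hcard, hrh, hlt⟩ := numbers hF hq (r := r)
  have hpq : r ∣ q := hn ▸ dvd_pow_self r hn0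
  have hh0 : h ≠ 0 := fun h0 => hrh (h0 ▸ dvd_zero r)
  rw [P.card_eq_multiplicity, hcard]
  have h2 : ¬ r ∣ (q ^ 3 + 1) * h := by
    intro h3
    rcases (hr.out.dvd_mul).1 h3 with h4 | h4
    · have h5 : r ∣ 1 := (Nat.dvd_add_right (hpq.trans (dvd_pow_self q (by norm_num)))).1 h4
      exact hr.out.one_lt.ne' (Nat.dvd_one.1 h5)
    · exact hrh h4
  have hQ0 : q ^ 3 ≠ 0 := pow_ne_zero _ (by omega)
  have h3 : (q ^ 3 + 1) * h ≠ 0 := by positivity
  rw [Nat.factorization_mul hQ0 h3, Finsupp.add_apply, Nat.factorization_eq_zero_of_not_dvd h2, add_zero]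
  conv_rhs => rw [hn]
  rw [hn, ← pow_mul, hr.out.factorization_pow, Finsupp.single_eq_same]

/-- **`PSU₃(q)` is tame in its characteristic.** -/
theorem tame (hF : Fintype.card F = q ^ 2) (hq : q ≠ 2) {r : ℕ} [hr : Fact r.Prime] [CharP F r]
    [Finite (PSU 3 F q)] [IsSimpleGroup (PSU 3 F q)] : Tame r (PSU 3 F q) := by
  obtain ⟨hq3, n, hn0, hn, d, h, hd3, hdq1, hd0, hh, hcard, hrh, hlt⟩ := numbers hF hq (r := r)
  have hpq : r ∣ q := hn ▸ dvd_pow_self r hn0
  refine ⟨H210.Loc.ti_psu3 hF, fun P => ?_, ?_⟩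
  · have hP := card_sylow hF hq P
    apply H394.SqTI.card_sylow_eq (H210.Loc.ti_psu3 hF) P (h := h)
    · rw [hP]; exact hpq.trans (dvd_pow_self q (by norm_num))
    · rw [hP]; exact hcard
    · rw [hP]; exact hlt
  · rw [hcard]
    exact (hpq.trans (dvd_pow_self q (by norm_num))).mul_right _

/-! ### `q` even -/

/-- the involutions of a Sylow `2`-subgroup are central in it -/
theorem invol_central (hF : Fintype.card F = q ^ 2) (hq : q ≠ 2) [CharP F 2]
    [Finite (PSU 3 F q)] [IsSimpleGroup (PSU 3 F q)] (P : Sylow 2 (PSU 3 F q)) {s : PSU 3 F q}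
    (hs : s ∈ (P : Subgroup (PSU 3 F q))) (hs2 : s * s = 1) : ∀ t ∈ (P : Subgroup (PSU 3 F q)), s * t = t * s := by
  have hr : Fact (Nat.Prime 2) := ⟨Nat.prime_two⟩
  by_cases hs1 : s = 1
  · intro t _
    rw [hs1, one_mul, mul_one]
  obtain ⟨hq3, n, hn0, hn, d, h, hd3, hdq1, hd0, hh, hcard, hrh, hlt⟩ := numbers hF hq (r := 2)
  subst hn
  have hso : orderOf s = 2 := orderOf_eq_prime (by rw [pow_two]; exact hs2) hs1
  have hfacts := (H245.RankOnePSU.facts (F := F) (n := n) (by omega) hF).2 s hso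
  -- `q³` divides the order of the centraliser
  have hdvd : (2 ^ n) ^ 3 ∣ Nat.card ↥(centralizer ({s} : Set (PSU 3 F (2 ^ n)))) := by
    have h1 : (2 ^ n) ^ 3 ∣ ((2 ^ n) ^ 3 + 1) * (2 ^ n - 1) *
        Nat.card ↥(centralizer ({s} : Set (PSU 3 F (2 ^ n)))) := by
      rw [hfacts, hcard]
      exact dvd_mul_right _ _
    refine Nat.Coprime.dvd_of_dvd_mul_left ?_ h1
    have h2 : 2 ∣ 2 ^ n := dvd_pow_self 2 hn0
    refine Nat.Coprime.pow_left 3 (Nat.Coprime.pow_left n ?_)
    rw [Nat.prime_two.coprime_iff_not_dvd, Nat.prime_two.dvd_mul]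
    have h3 : 2 ∣ (2 ^ n) ^ 3 := h2.trans (dvd_pow_self _ (by norm_num))
    rintro (h4 | h4) <;> omega
  -- a Sylow subgroup centralising `s`
  rw [← pow_mul] at hdvd
  obtain ⟨S, hS⟩ := Sylow.exists_subgroup_card_pow_prime (G := ↥(centralizer ({s} : Set (PSU 3 F (2 ^ n))))) 2 hdvd
  let S' : Subgroup (PSU 3 F (2 ^ n)) := S.map (centralizer ({s} : Set (PSU 3 F (2 ^ n)))).subtype
  have hS' : Nat.card S' = 2 ^ (n * 3) := by
    rw [← hS]
    exact (Nat.card_congr (S.equivMapOfInjective _ (subtype_injective _)).toEquiv).symm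
  obtain ⟨Q, hQ⟩ := (IsPGroup.of_card hS').exists_le_sylow
  have hQe : (Q : Subgroup (PSU 3 F (2 ^ n))) = S' := by
    symm
    apply eq_of_le_of_card_ge hQ
    rw [hS']
    have h1 := card_sylow hF hq Q
    rw [← pow_mul] at h1
    exact h1.le
  have hc : ∀ t ∈ (Q : Subgroup (PSU 3 F (2 ^ n))), s * t = t * s := by
    intro t ht
    rw [hQe] at ht
    obtain ⟨z, -, rfl⟩ := ht
    exact ((mem_centralizer_singleton_iff).1 z.2).symm
  -- `s ∈ Q`
  have hsQ : s ∈ (Q : Subgroup (PSU 3 F (2 ^ n))) := by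
    refine H394.SqTI.mem_of_mem_normalizer Q (S := zpowers s) ?_ (mem_zpowers s) ?_
    · exact IsPGroup.of_card (n := 1) (by rw [Nat.card_zpowers, hso, pow_one])
    · rw [mem_normalizer_iff]
      intro t
      constructor
      · intro ht
        rw [hc t ht, mul_inv_cancel_right]
        exact ht
      · intro ht
        have h1 := hc _ ht
        have h2 : s * t * s⁻¹ = t := by
          have h3 : s * (s * t * s⁻¹) = s * t := by rw [h1]; group
          exact mul_left_cancel h3
        rwa [h2] at ht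
  have hPQ : P = Q := by
    by_contra hne
    have h1 : s ∈ (P : Subgroup (PSU 3 F (2 ^ n))) ⊓ Q := ⟨hs, hsQ⟩
    rw [(tame hF hq (r := 2)).ti P Q hne, mem_bot] at h1
    exact hs1 h1
  rw [hPQ]
  exact hc

/-- a Sylow `2`-subgroup has two involutions -/
theorem exists_two_invol (hF : Fintype.card F = q ^ 2) (hq : q ≠ 2) [CharP F 2]
    [Finite (PSU 3 F q)] [IsSimpleGroup (PSU 3 F q)] (P : Sylow 2 (PSU 3 F q)) :
    ∃ a ∈ (P : Subgroup (PSU 3 F q)), ∃ b ∈ (P : Subgroup (PSU 3 F q)), a ≠ b ∧ a * a = 1 ∧ b * b = 1 ∧ a ≠ 1 ∧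
      b ≠ 1 := by
  have hr : Fact (Nat.Prime 2) := ⟨Nat.prime_two⟩
  have ht := tame hF hq (r := 2)
  by_contra hcon
  push Not at hcon
  -- the same for all Sylow subgroups
  have hone : ∀ Q : Sylow 2 (PSU 3 F q), ∀ a ∈ (Q : Subgroup (PSU 3 F q)), ∀ b ∈ (Q : Subgroup (PSU 3 F q)),
      a * a = 1 → b * b = 1 → a ≠ 1 → b ≠ 1 → a = b := by
    intro Q a ha b hb ha2 hb2 ha1 hb1
    obtain ⟨g, hg⟩ := MulAction.exists_smul_eq (PSU 3 F q) Q P
    have hm : ∀ x ∈ (Q : Subgroup (PSU 3 F q)), g * x * g⁻¹ ∈ (P : Subgroup (PSU 3 F q)) := by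
      intro x hx
      rw [← hg, Sylow.smul_def]
      exact Subgroup.smul_mem_pointwise_smul x (MulAut.conj g) (Q : Subgroup (PSU 3 F q)) hx
    have hi : ∀ x : PSU 3 F q, x * x = 1 → (g * x * g⁻¹) * (g * x * g⁻¹) = 1 := by
      intro x hx
      calc (g * x * g⁻¹) * (g * x * g⁻¹) = g * (x * x) * g⁻¹ := by group
        _ = 1 := by rw [hx]; group
    have hne : ∀ x : PSU 3 F q, x ≠ 1 → g * x * g⁻¹ ≠ 1 := by
      intro x hx h1
      apply hx
      calc x = g⁻¹ * (g * x * g⁻¹) * g := by group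
        _ = 1 := by rw [h1]; group
    by_contra hab
    refine hne b hb1 (hcon _ (hm a ha) _ (hm b hb) ?_ (hi a ha2) (hi b hb2) (hne a ha1))
    intro h1
    apply hab
    exact mul_left_cancel (mul_right_cancel h1)
  obtain ⟨hq3, n, hn0, hn, d, h, hd3, hdq1, hd0, hh, hcard, hrh, hlt⟩ := numbers hF hq (r := 2)
  subst hn
  have hfacts := H245.RankOnePSU.facts (F := F) (n := n) (by omega) hF
  -- an involution
  obtain ⟨z, hz⟩ := exists_prime_orderOf_dvd_card' 2 ht.dvd
  -- the number of involutions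
  have hidx : (centralizer ({z} : Set (PSU 3 F (2 ^ n)))).index = ((2 ^ n) ^ 3 + 1) * (2 ^ n - 1) := by
    have h1 := (centralizer ({z} : Set (PSU 3 F (2 ^ n)))).card_mul_index
    rw [← hfacts.2 z hz, mul_comm] at h1
    exact Nat.eq_of_mul_eq_mul_right Nat.card_pos h1
  rw [Blocks.ClassScalar.index_centralizer] at hidx
  -- the map to the Sylow subgroups
  have hex : ∀ x : {x : PSU 3 F (2 ^ n) // IsConj z x}, ∃ Q : Sylow 2 (PSU 3 F (2 ^ n)),
      (x : PSU 3 F (2 ^ n)) ∈ (Q : Subgroup (PSU 3 F (2 ^ n))) ∧ orderOf (x : PSU 3 F (2 ^ n)) = 2 := by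
    rintro ⟨x, hx⟩
    have hxo : orderOf x = 2 := by
      obtain ⟨g, rfl⟩ := isConj_iff.1 hx
      exact (orderOf_injective (MulAut.conj g).toMonoidHom (MulAut.conj g).injective z).trans hz
    obtain ⟨Q, hQ⟩ := (IsPGroup.of_card (n := 1) (G := zpowers x) (p := 2) (by
      rw [Nat.card_zpowers, hxo, pow_one])).exists_le_sylow
    exact ⟨Q, hQ (mem_zpowers x), hxo⟩
  choose f hf hfo using hex
  have hinj : Function.Injective f := by
    intro x y hxy
    apply Subtype.ext
    have h1 : ∀ w : PSU 3 F (2 ^ n), orderOf w = 2 → w * w = 1 ∧ w ≠ 1 := by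
      intro w hw
      refine ⟨?_, ?_⟩
      · have := pow_orderOf_eq_one w
        rwa [hw, pow_two] at this
      · rintro rfl
        rw [orderOf_one] at hw
        exact absurd hw (by norm_num)
    have hy := hf y
    rw [← hxy] at hy
    exact hone (f x) _ (hf x) _ hy (h1 _ (hfo x)).1 (h1 _ (hfo y)).1 (h1 _ (hfo x)).2 (h1 _ (hfo y)).2
  have hle := Nat.card_le_card_of_injective f hinj
  rw [hidx, ht.card P, card_sylow hF hq P] at hle
  have h2 : 2 ≤ 2 ^ n - 1 := by omega
  have h3 : ((2 ^ n) ^ 3 + 1) * 2 ≤ ((2 ^ n) ^ 3 + 1) * (2 ^ n - 1) := Nat.mul_le_mul_left _ h2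
  have h4 : 0 < (2 ^ n) ^ 3 := by positivity
  omega

/-- **`q` even.** -/
theorem ne_even (hF : Fintype.card F = q ^ 2) (hq : q ≠ 2) [CharP F 2] {α : MulAut (PSU 3 F q)} (hα : Cfg α) :
    EL 2 α := by
  have hr : Fact (Nat.Prime 2) := ⟨Nat.prime_two⟩
  have hfin : Finite (PSU 3 F q) := by
    have h1 := (numbers hF hq (r := 2))
    obtain ⟨hq3, n, hn0, hn, d, h, hd3, hdq1, hd0, hh, hcard, hrh, hlt⟩ := h1
    apply Nat.finite_of_card_ne_zero
    rw [hcard]
    have hh0 : h ≠ 0 := fun h0 => hrh (h0 ▸ dvd_zero 2)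
    (clear * - hq3 hh0; positivity)
  have := hα.sim
  refine el_two (tame hF hq) hα ?_ ?_ (exists_two_invol hF hq)
  · obtain ⟨hq3, n, hn0, hn, -⟩ := numbers hF hq (r := 2)
    subst hn
    exact (H245.RankOnePSU.facts (F := F) (n := n) (by omega) hF).1
  · intro P s hs t ht hs2 _
    exact invol_central hF hq P hs hs2 t ht

end Cfsg.Agent.H763.Ccp.Psu
end
end

-- part: H763/Ccp/PsuReal
section
set_option linter.all false
open scoped Cfsg.Agent.FastGrp

/-!
# S4114: `PSU₃(q)`, `q` odd: the elements of order `r` (the characteristic) are real (helper763)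
-/

set_option autoImplicit false

namespace Cfsg.Agent.H763.Ccp.Psu

open Subgroup Cfsg Cfsg.Agent.H520 Cfsg.Agent.H763.Ccp
open Cfsg.Agent.UThreeGen.MatGroup

section Model

variable {F : Type*} [Field F] [Finite F] {σ : F →+* F} [hσ : Fact (∀ x, σ (σ x) = x)]

/-- a pair is conjugate to its inverse under the torus and the pairs -/
theorem pair_real {q : ℕ} (hq : 1 < q) (h2 : (2 : F) ≠ 0) (hs : ∀ x, σ x = x ^ q)
    (hF : Nat.card F = q ^ 2) (x : HG σ) : ∃ (l : Fˣ) (y : HG σ), y * HKS.EndU.act l x * y⁻¹ = x⁻¹ := by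
  by_cases hx : x.a = 0
  · obtain ⟨v, hv⟩ := UThreeGen.Recog.exists_norm (σ := σ) hq hs hF (c := -1) (by rw [map_neg, map_one])
    have hv0 : v ≠ 0 := by
      rintro rfl
      rw [zero_mul] at hv
      exact one_ne_zero (neg_eq_zero.1 hv.symm)
    refine ⟨Units.mk0 v hv0, 1, ?_⟩
    rw [one_mul, inv_one, mul_one]
    have h := x.h
    rw [hx, zero_mul] at h
    ext
    · show v ^ 2 / σ v * x.a = -x.a
      rw [hx, mul_zero, neg_zero]
    · show v * σ v * x.b = σ x.b
      rw [hv]
      linear_combination -h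
  · have hsx : σ x.a ≠ 0 := (map_ne_zero σ).2 hx
    obtain ⟨y, hy⟩ := UThreeGen.Recog.exists_a (σ := σ) h2 ((σ x.b - x.b) / (2 * σ (-x.a)))
    refine ⟨-1, y, ?_⟩
    have ha : (HKS.EndU.act (-1 : Fˣ) x).a = -x.a := by
      show ((-1 : Fˣ) : F) ^ 2 / σ ((-1 : Fˣ) : F) * x.a = -x.a
      rw [Units.val_neg, Units.val_one, map_neg, map_one]
      ring
    have hb : (HKS.EndU.act (-1 : Fˣ) x).b = x.b := by
      show ((-1 : Fˣ) : F) * σ ((-1 : Fˣ) : F) * x.b = x.b
      rw [Units.val_neg, Units.val_one, map_neg, map_one]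
      ring
    have hs2 : σ (2 : F) = 2 := map_ofNat σ 2
    ext
    · rw [mul_a, mul_a, ha, inv_a, inv_a]
      ring
    · rw [mul_b, mul_b, mul_a, ha, hb, inv_a, inv_b, inv_b, map_neg, map_neg]
      have hyh := y.h
      have h1 : y.a * σ x.a = -(σ x.b - x.b) / 2 := by
        rw [hy, map_neg]
        field_simp
      have h2' : x.a * σ y.a = -(x.b - σ x.b) / 2 := by
        have h3 := congrArg σ h1
        rw [map_mul, sig, map_div₀, map_neg, map_sub, sig, hs2] at h3
        rw [mul_comm]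
        exact h3
      have h3 : (2 : F) * (-(σ x.b - x.b) / 2) = -(σ x.b - x.b) := by field_simp
      have h4 : (2 : F) * (-(x.b - σ x.b) / 2) = -(x.b - σ x.b) := by field_simp
      have h5 : (2 : F) * (y.b + x.b + y.a * -σ x.a + σ y.b + (y.a + -x.a) * -σ y.a - σ x.b) = 0 := by
        linear_combination 2 * hyh - 2 * h1 + 2 * h2' - h3 + h4
      have h6 := (mul_eq_zero.1 h5).resolve_left h2
      linear_combination h6

end Model

variable {F : Type} [Field F] [Fintype F] {q : ℕ}

theorem two_ne_zero' {r : ℕ} [hr : Fact r.Prime] [CharP F r] (hr2 : r ≠ 2) : (2 : F) ≠ 0 := by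
  intro h
  have h1 : ((2 : ℕ) : F) = 0 := by exact_mod_cast h
  have h2 := (CharP.cast_eq_zero_iff F r 2).1 h1
  exact hr2 ((Nat.prime_dvd_prime_iff_eq hr.out Nat.prime_two).1 h2)

/-- **The elements of order `r` are real.** -/
theorem real (hF : Fintype.card F = q ^ 2) (hq : q ≠ 2) {r : ℕ} [hr : Fact r.Prime] [CharP F r] (hr2 : r ≠ 2)
    [Finite (PSU 3 F q)] (u : PSU 3 F q) (hu : orderOf u = r) : IsConj u u⁻¹ := by
  classical
  have hq1 : 1 < q := LieClassical.HermBasic.two_le hF
  have hcF : Nat.card F = q ^ 2 := by rw [Nat.card_eq_fintype_card, hF]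
  have h2 : (2 : F) ≠ 0 := two_ne_zero' hr2
  obtain ⟨hq3, n, hn0, hn, d, h, hd3, hdq1, hd0, hh, hcard, hrh, hlt⟩ := numbers hF hq (r := r)
  let σ : F →+* F := (LieClassical.HermBasic.conj hF).toRingHom
  have hs : ∀ x, σ x = x ^ q := fun x => rfl
  have hσ : Fact (∀ x, σ (σ x) = x) := ⟨fun x => LieClassical.HermBasic.pow_q_pow_q hF x⟩
  obtain ⟨π, hπ, hker⟩ := HKS.EndU.exists_pi (σ := σ) hq1 h2 hs hcF
  have hinj : Function.Injective (π.comp (emb σ)) := by
    rw [injective_iff_map_eq_one]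
    exact fun x hx => eq_one_of_mem_center ((hker _).1 hx)
  have hcS : Nat.card (π.comp (emb σ)).range = q ^ 3 := by
    rw [← Nat.card_congr (MonoidHom.ofInjective hinj).toEquiv]
    exact HKS.EndU.card_HG hF h2 hs
  obtain ⟨Q, hQ⟩ := (IsPGroup.of_card (n := n * 3) (p := r) (G := (π.comp (emb σ)).range) (by
    rw [hcS, hn, pow_mul])).exists_le_sylow
  have hQe : (Q : Subgroup (PSU 3 F q)) = (π.comp (emb σ)).range := by
    symm
    apply eq_of_le_of_card_ge hQ
    rw [hcS]
    exact (card_sylow hF hq Q).le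
  -- `u` in a Sylow subgroup
  obtain ⟨P, hP⟩ := (IsPGroup.of_card (n := 1) (G := zpowers u) (p := r) (by
    rw [Nat.card_zpowers, hu, pow_one])).exists_le_sylow
  obtain ⟨g, hg⟩ := MulAction.exists_smul_eq (PSU 3 F q) P Q
  have hm : g * u * g⁻¹ ∈ (Q : Subgroup (PSU 3 F q)) := by
    rw [← hg, Sylow.smul_def]
    exact Subgroup.smul_mem_pointwise_smul u (MulAut.conj g) (P : Subgroup (PSU 3 F q)) (hP (mem_zpowers u))
  rw [hQe] at hm
  obtain ⟨x, hx⟩ := hm
  obtain ⟨l, y, hly⟩ := pair_real (σ := σ) hq1 h2 hs hcF x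
  have h1 : IsConj (π (emb σ x)) (π (emb σ x))⁻¹ := by
    rw [isConj_iff]
    refine ⟨π (emb σ y) * π (HKS.EndU.tor σ l), ?_⟩
    calc π (emb σ y) * π (HKS.EndU.tor σ l) * π (emb σ x) * (π (emb σ y) * π (HKS.EndU.tor σ l))⁻¹ =
        π (emb σ y) * (π (HKS.EndU.tor σ l) * π (emb σ x) * (π (HKS.EndU.tor σ l))⁻¹) * (π (emb σ y))⁻¹ := by group
      _ = π (emb σ y) * π (emb σ (HKS.EndU.act l x)) * (π (emb σ y))⁻¹ := by rw [HKS.EndU.tor_conj]
      _ = π (emb σ (y * HKS.EndU.act l x * y⁻¹)) := by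
        rw [map_mul, map_mul, map_mul, map_mul, map_inv, map_inv]
      _ = (π (emb σ x))⁻¹ := by rw [hly, map_inv, map_inv]
  have hx' : π (emb σ x) = g * u * g⁻¹ := hx
  rw [hx'] at h1
  have h3 : IsConj u (g * u * g⁻¹) := isConj_iff.2 ⟨g, rfl⟩
  have h4 : IsConj (g * u * g⁻¹)⁻¹ u⁻¹ := isConj_iff.2 ⟨g⁻¹, by group⟩
  exact (h3.trans h1).trans h4

end Cfsg.Agent.H763.Ccp.Psu
end

-- part: H763/Ccp/PsuOut
section
set_option linter.all false
open scoped Cfsg.Agent.FastGrp

/-!
# S4114: `PSU₃(q)`, `q` odd: outer automorphisms of order `r` (the characteristic) (helper763)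
-/

set_option autoImplicit false

namespace Cfsg.Agent.H763.Ccp

open Subgroup Cfsg Cfsg.Agent.H520

section Gen

variable {K : Type*} [Group K]

/-- An almost simple group has no solvable normal subgroup. -/
theorem no_solv [hs : IsSimpleGroup K] (hna : ¬ ∀ a b : K, a * b = b * a) (X : Subgroup (MulAut K))
    (hX : (MulAut.conj : K →* MulAut K).range ≤ X) (N : Subgroup X) (hN : N.Normal) (hsol : Group.IsSolvable N) :
    N = ⊥ := by
  have hZ : center K = ⊥ := by
    rcases Subgroup.Normal.eq_bot_or_eq_top (inferInstance : (center K).Normal) with h1 | h1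
    · exact h1
    · exfalso
      apply hna
      intro a b
      have h2 : b ∈ center K := by rw [h1]; trivial
      exact mem_center_iff.1 h2 a
  have hsK : ¬ Group.IsSolvable K := by
    intro h
    exact hna (IsSimpleGroup.comm_iff_isSolvable.2 h)
  -- the inner part
  let c : K →* X := (MulAut.conj : K →* MulAut K).codRestrict X (fun g => hX ⟨g, rfl⟩)
  have hcn : (N.comap c).Normal := hN.comap c
  have hc : N.comap c = ⊥ := by
    rcases Subgroup.Normal.eq_bot_or_eq_top hcn with h1 | h1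
    · exact h1
    · exfalso
      apply hsK
      have hinj : Function.Injective c := by
        rw [injective_iff_map_eq_one]
        intro g hg
        have h2 : (MulAut.conj g : MulAut K) = 1 := congrArg Subtype.val hg
        rw [← mem_bot, ← hZ, mem_center_iff]
        intro k
        have h3 := DFunLike.congr_fun h2 k
        rw [MulAut.conj_apply, MulAut.one_apply] at h3
        calc k * g = (g * k * g⁻¹) * g := by rw [h3]
          _ = g * k := by group
      have hm : ∀ g : K, c g ∈ N := fun g => by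
        have : g ∈ N.comap c := by rw [h1]; trivial
        exact this
      exact Group.isSolvable_of_isSolvable_injective (f := c.codRestrict N hm) (fun a b hab => hinj (by
        have := congrArg Subtype.val hab
        exact this))
  rw [eq_bot_iff]
  intro n hn
  rw [mem_bot]
  apply Subtype.ext
  ext k
  show (n : MulAut K) k = k
  -- `n c(k) n⁻¹ c(k)⁻¹ ∈ N ∩ Inn`
  have h1 : n * c k * n⁻¹ = c ((n : MulAut K) k) := by
    apply Subtype.ext
    ext y
    show (n : MulAut K) (k * ((n : MulAut K)⁻¹ y) * k⁻¹) = (n : MulAut K) k * y * ((n : MulAut K) k)⁻¹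
    rw [map_mul, map_mul, map_inv, MulAut.apply_inv_self]
  have h2 : c ((n : MulAut K) k * k⁻¹) ∈ N := by
    rw [map_mul, ← h1, map_inv]
    have h3 : n * c k * n⁻¹ * (c k)⁻¹ = n * (c k * n⁻¹ * (c k)⁻¹) := by group
    rw [h3]
    exact N.mul_mem hn (hN.conj_mem _ (N.inv_mem hn) _)
  have h3 : (n : MulAut K) k * k⁻¹ ∈ N.comap c := h2
  rw [hc, mem_bot, mul_inv_eq_one] at h3
  exact h3

/-- the fixed points of `x` have no solvable normal subgroup if a subgroup of `C(x)` containing them has none -/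
theorem fixA_no_solv [Finite K] (hZ : center K = ⊥) {x : MulAut K} {X : Subgroup (MulAut K)}
    (hX : (MulAut.conj : K →* MulAut K).range ≤ X)
    (h : ∀ N : Subgroup ↥(X ⊓ centralizer ({x} : Set (MulAut K))), N.Normal → Group.IsSolvable N → N = ⊥) :
    ∀ N : Subgroup ↥(fixA x), N.Normal → Group.IsSolvable N → N = ⊥ := by
  intro N hN hsol
  have hR : H459.Rad.radIn (fixA x) = ⊥ := by
    let R := H459.Rad.radIn (fixA x)
    have hRX : ∀ g ∈ R, (MulAut.conj g : MulAut K) ∈ X ⊓ centralizer ({x} : Set (MulAut K)) := by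
      intro g hg
      refine mem_inf.2 ⟨hX ⟨g, rfl⟩, ?_⟩
      have hgx : x g = g := H459.Rad.radIn_le _ hg
      rw [mem_centralizer_singleton_iff]
      ext y
      show g * x y * g⁻¹ = x (g * y * g⁻¹)
      rw [map_mul, map_mul, map_inv, hgx]
    have hRinv : ∀ δ : MulAut K, δ * x = x * δ → ∀ g ∈ R, δ g ∈ R := by
      intro δ hδ g hg
      have h1 : (fixA x).map δ.toMonoidHom = fixA x := by
        apply le_antisymm
        · rintro _ ⟨y, hy, rfl⟩
          have hy' : x y = y := hy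
          show x (δ y) = δ y
          have h2 := DFunLike.congr_fun hδ y
          rw [MulAut.mul_apply, MulAut.mul_apply, hy'] at h2
          exact h2.symm
        · intro y hy
          have hy' : x y = y := hy
          refine ⟨δ⁻¹ y, ?_, ?_⟩
          · show x (δ⁻¹ y) = δ⁻¹ y
            apply δ.injective
            have h2 := DFunLike.congr_fun hδ (δ⁻¹ y)
            rw [MulAut.mul_apply, MulAut.mul_apply, MulAut.apply_inv_self] at h2
            rw [h2, hy', MulAut.apply_inv_self]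
          · exact MulAut.apply_inv_self _ _ _
      have h2 := H459.Rad.radIn_map δ (M := fixA x)
      rw [h1] at h2
      show δ g ∈ H459.Rad.radIn (fixA x)
      rw [← h2]
      exact ⟨g, hg, rfl⟩
    let M : Subgroup ↥(X ⊓ centralizer ({x} : Set (MulAut K))) :=
      (R.map (MulAut.conj : K →* MulAut K)).subgroupOf _
    have hMn : M.Normal := by
      constructor
      intro m hm δ
      obtain ⟨g, hg, hgm⟩ := hm
      refine ⟨(δ : MulAut K) g, hRinv _ (mem_centralizer_singleton_iff.1 δ.2.2) g hg, ?_⟩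
      show MulAut.conj ((δ : MulAut K) g) = (δ : MulAut K) * m * (δ : MulAut K)⁻¹
      have hgm' : MulAut.conj g = (m : MulAut K) := hgm
      rw [← hgm']
      ext y
      show (δ : MulAut K) g * y * ((δ : MulAut K) g)⁻¹ = (δ : MulAut K) (g * ((δ : MulAut K)⁻¹ y) * g⁻¹)
      rw [map_mul, map_mul, map_inv, MulAut.apply_inv_self]
    have hRs : Group.IsSolvable R := H459.Rad.radIn_solvable _
    have hMs : Group.IsSolvable M := by
      have h1 : Group.IsSolvable (R.map (MulAut.conj : K →* MulAut K)) :=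
        Group.isSolvable_of_surjective (f := (MulAut.conj : K →* MulAut K).subgroupMap R)
          ((MulAut.conj : K →* MulAut K).subgroupMap_surjective R)
      have hle : R.map (MulAut.conj : K →* MulAut K) ≤ X ⊓ centralizer ({x} : Set (MulAut K)) := by
        rintro _ ⟨g, hg, rfl⟩
        exact hRX g hg
      exact Group.isSolvable_of_surjective (f := (subgroupOfEquivOfLe hle).symm.toMonoidHom)
        (subgroupOfEquivOfLe hle).symm.surjective
    have hM := h M hMn hMs
    rw [eq_bot_iff]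
    intro g hg
    have h1 : (⟨MulAut.conj g, hRX g hg⟩ : ↥(X ⊓ centralizer ({x} : Set (MulAut K)))) ∈ M := ⟨g, hg, rfl⟩
    rw [hM, mem_bot] at h1
    have h2 : (MulAut.conj g : MulAut K) = 1 := congrArg Subtype.val h1
    rw [← hZ, mem_center_iff]
    intro k
    have h3 := DFunLike.congr_fun h2 k
    rw [MulAut.conj_apply, MulAut.one_apply] at h3
    calc k * g = (g * k * g⁻¹) * g := by rw [h3]
      _ = g * k := by group
  have h1 := H459.Rad.le_rad hN hsol
  rw [eq_bot_iff]
  intro n hn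
  have h2 : (n : K) ∈ H459.Rad.radIn (fixA x) := H459.Rad.mem_radIn_coe.2 (h1 hn)
  rw [hR, mem_bot] at h2
  rw [mem_bot]
  exact Subtype.ext h2

end Gen

namespace Psu

variable {F : Type} [Field F] [Fintype F] {q : ℕ}

/-- **Outer automorphisms of order `r`.** -/
theorem outer (hF : Fintype.card F = q ^ 2) (hq : q ≠ 2) {r : ℕ} [hr : Fact r.Prime] [CharP F r] (hr2 : r ≠ 2)
    [Finite (PSU 3 F q)] [IsSimpleGroup (PSU 3 F q)] (x : MulAut (PSU 3 F q)) (hx : orderOf x = r)
    (hout : ∀ u : PSU 3 F q, x ≠ MulAut.conj u) :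
    ∀ N : Subgroup ↥(fixA x), N.Normal → Group.IsSolvable N → N = ⊥ := by
  have h32 : ¬ ((3 : ℕ) = 3 ∧ q = 2) := fun h => hq h.2
  have hna : ∀ (K : Type) [Field K] [Fintype K] (s : ℕ) (_ : IsSimpleGroup (PSU 3 K s)),
      ¬ ∀ a b : PSU 3 K s, a * b = b * a := by
    intro K _ _ s hs hab
    exact H242.StrP.FC.not_comm_psu hs ⟨⟨hab⟩⟩
  obtain ⟨hq3, n, hn0, hn, d, h, hd3, hdq1, hd0, hh, hcard, hrh, hlt⟩ := numbers hF hq (r := r)
  have hrq : r ∣ q := hn ▸ dvd_pow_self r hn0
  obtain ⟨A, ρ, rfl⟩ := ClassicalGeometry.PSUAutMain.exists_toAut hF (le_refl 3) h32 x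
  have hpow : ClassicalGeometry.PSUAutCount.toAut A ρ ^ r = 1 := by rw [← hx]; exact pow_orderOf_eq_one _
  by_cases hρ : ρ = 1
  · -- inner-diagonal
    exfalso
    subst hρ
    have hmem : ClassicalGeometry.PSUAutCount.toAut A 1 ∈ inndiagPSU 3 F q := by
      rw [H202.Psu.inndiag_eq]
      exact ⟨A, rfl⟩
    have hrel := H169.UAut.relIndex_inn hF (le_refl 3)
    have hnI : (Inn (PSU 3 F q)).Normal := H169.UAut.inn_normal'
    have h1 : ClassicalGeometry.PSUAutCount.toAut A 1 ^ Nat.gcd 3 (q + 1) ∈ Inn (PSU 3 F q) := by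
      rw [← hrel]
      have h2 : (⟨_, hmem⟩ : ↥(inndiagPSU 3 F q)) ^ ((Inn (PSU 3 F q)).subgroupOf (inndiagPSU 3 F q)).index ∈
        (Inn (PSU 3 F q)).subgroupOf (inndiagPSU 3 F q) := Subgroup.pow_index_mem _ _
      exact h2
    have hcop : Nat.Coprime (Nat.gcd 3 (q + 1)) r := by
      rw [Nat.coprime_comm, hr.out.coprime_iff_not_dvd]
      intro h2
      have h3 : r ∣ q + 1 := h2.trans (Nat.gcd_dvd_right _ _)
      have h4 : r ∣ 1 := (Nat.dvd_add_right hrq).1 h3
      exact hr.out.one_lt.ne' (Nat.dvd_one.1 h4)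
    have h2 : ClassicalGeometry.PSUAutCount.toAut A 1 ∈ Inn (PSU 3 F q) := by
      obtain ⟨m, -, hm⟩ := Nat.exists_mul_mod_eq_one_of_coprime hcop hr.out.one_lt
      have h3 := (Inn (PSU 3 F q)).pow_mem h1 m
      rw [← pow_mul, ← pow_mod_orderOf, hx, hm, pow_one] at h3
      exact h3
    obtain ⟨u, hu⟩ := h2
    exact hout u hu.symm
  · -- field type
    have hr2' : Odd r := hr.out.odd_of_ne_two hr2
    obtain ⟨hρr, -⟩ := CpAutU.Desc.exists_scalar hF (le_refl 3) hpow
    have hρo : orderOf ρ = r := orderOf_eq_prime hρr hρ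
    obtain ⟨-, m, hm, hconj⟩ := H202.Psu.exists_conj_field hF (le_refl 3) hρ (by rw [hρo]; exact hr2') hr.out hx
    have hcl : IsFieldAutClassPSU (ClassicalGeometry.PSUAutCount.toAut A ρ) := by
      refine ⟨m⁻¹, Schreier.PSU.f₂ ρ, ρ, hρ, by rw [hρo]; exact hr2', (H202.Psu.isFieldAut_iff ρ _).2 rfl, ?_⟩
      rw [hconj]
      group
    have hrn : r ∣ n := by
      have h1 : Nat.card (F ≃+* F) = 2 * n := Lib.FieldAutCard.card_ringAut (p := r) (by omega)
        (by rw [hF, hn, ← pow_mul, mul_comm])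
      have h3 : r ∣ 2 * n := by
        rw [← h1, ← hρo]
        exact orderOf_dvd_natCard ρ
      rcases (hr.out.dvd_mul).1 h3 with h4 | h4
      · exact absurd ((Nat.prime_dvd_prime_iff_eq hr.out Nat.prime_two).1 h4) hr2
      · exact h4
    have hnr : 1 ≤ n / r := Nat.div_pos (Nat.le_of_dvd (by omega) hrn) hr.out.pos
    let _ : Fintype (GaloisField r (2 * (n / r))) := Fintype.ofFinite _
    have hF₀ : Fintype.card (GaloisField r (2 * (n / r))) = r ^ (2 * (n / r)) := by
      rw [← Nat.card_eq_fintype_card, GaloisField.card r (2 * (n / r)) (by omega)]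
    obtain ⟨-, ⟨e⟩, -⟩ := S2705.result (p := r) (f := n) hn (by omega) hF (le_refl 3) h32 _ hcl hr.out hr2' hx
      (GaloisField r (2 * (n / r))) hF₀
    have hF₀' : Fintype.card (GaloisField r (2 * (n / r))) = (r ^ (n / r)) ^ 2 := by
      rw [hF₀, ← pow_mul, mul_comm]
    have hq₀ : r ^ (n / r) ≠ 2 := by
      intro h2
      have h3 : r ∣ 2 := by rw [← h2]; exact dvd_pow_self r (by omega)
      exact hr2 ((Nat.prime_dvd_prime_iff_eq hr.out Nat.prime_two).1 h3)
    have hs₀ : IsSimpleGroup (PSU 3 (GaloisField r (2 * (n / r))) (r ^ (n / r))) :=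
      S0283.result hF₀' 3 (le_refl 3) (fun h => hq₀ h.2)
    obtain ⟨e₂⟩ := H242.StrP.FC.pgu_equiv (F := GaloisField r (2 * (n / r))) (q := r ^ (n / r)) hF₀' (le_refl 3)
    have hZ : center (PSU 3 F q) = ⊥ := by
      rcases Subgroup.Normal.eq_bot_or_eq_top (inferInstance : (center (PSU 3 F q)).Normal) with h1 | h1
      · exact h1
      · exfalso
        apply hna F q inferInstance
        intro a b
        have h2 : b ∈ center (PSU 3 F q) := by rw [h1]; trivial
        exact mem_center_iff.1 h2 a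
    refine fixA_no_solv hZ (X := inndiagPSU 3 F q) (H169.UAut.inn_le_inndiag hF) ?_
    intro N hN hsol
    have h1 : (N.map (e.trans e₂).toMonoidHom) = ⊥ := by
      refine no_solv (hna _ _ hs₀) _ (H169.UAut.inn_le_inndiag hF₀') _ ?_ ?_
      · exact hN.map _ (e.trans e₂).surjective
      · exact Group.isSolvable_of_surjective (f := (e.trans e₂).toMonoidHom.subgroupMap N)
          ((e.trans e₂).toMonoidHom.subgroupMap_surjective N)
    rw [eq_bot_iff]
    intro n hn
    have h2 : (e.trans e₂) n ∈ N.map (e.trans e₂).toMonoidHom := ⟨n, hn, rfl⟩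
    rw [h1, mem_bot] at h2
    rw [mem_bot]
    exact (e.trans e₂).injective (by rw [h2, map_one])

/-- **`PSU₃(q)`, the non-elliptic case.** -/
theorem ne_psu3 (hF : Fintype.card F = q ^ 2) (hq : q ≠ 2) {r : ℕ} [hr : Fact r.Prime] [CharP F r] :
    ∀ α : MulAut (PSU 3 F q), Cfg α → EL r α := by
  intro α hα
  by_cases hr2 : r = 2
  · subst hr2
    exact ne_even hF hq hα
  · have hfin : Finite (PSU 3 F q) := H242.StrP.FC.finite_psu
    have := hα.sim
    exact el_odd hr2 (tame hF hq) hα (fun u hu => real hF hq hr2 u hu)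
      (fun x hx hout => outer hF hq hr2 x hx hout)

end Psu

end Cfsg.Agent.H763.Ccp
end
end
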